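import Groth.Agent.MultTypeHom.Props
import Groth.Agent.HomRepLib.LocalRep
import Groth.Agent.AlgSpDec.FppfLqf
import Groth.Agent.AlgSpDec.DescRep
import Groth.Agent.DescLib.IndQAEff
import Groth.Agent.GrpSchLib.MultTypeBC
import Groth.Prelude.Def_TwC

/-!
# Representability of the homomorphisms from a quasi-isotrivial group to a smooth affine group

Etale locally the source is diagonalisable; the local representing schemes are ind-quasi-affine, so they descend.
-/

set_option autoImplicit false
set_option linter.style.haveILetI false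

universe u

open CategoryTheory CategoryTheory.Limits MonoidalCategory CartesianMonoidalCategory MonObj AlgebraicGeometry
open TensorProduct AlgSp Groth.Agent.AlgSpLib Groth.Agent.AlgSpDec

noncomputable section

namespace Groth.Agent.MultTypeHom

set_option backward.isDefEq.respectTransparency false
set_option backward.isDefEq.respectTransparency.types false

open GrpSchLib GrpSchLib.AffineHopf

variable {S : Scheme.{u}}

/-- Representability for a diagonalisable source over an affine scheme. -/
theorem exists_representsHom_affine {R : Type u} [CommRing R] (H G : Over (Spec (CommRingCat.of R))) [GrpObj H]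
    [GrpObj G] [IsAffineHom G.hom] [Smooth G.hom] (M : Type) [AddCommGroup M]
    (e : Grp.mk H ≅ Grp.mk (Red.DS (Spec (CommRingCat.of R)) M)) :
    ∃ (A : Over (Spec (CommRingCat.of R))) (υ : H ⊗ A ⟶ G),
      AutFam.RepresentsHom H G A υ ∧ Smooth A.hom ∧ IsSeparated A.hom ∧ MoreMor.IsIndQuasiAffineHom A.hom := by
  haveI : IsAffine G.left := isAffine_of_isAffineHom G.hom
  obtain ⟨C, _, _, ⟨eG⟩⟩ := exists_hopf G
  haveI : IsIso eG.hom.hom.hom.left :=
    ⟨eG.inv.hom.hom.left, congrArg (fun h => h.hom.hom.left) eG.hom_inv_id,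
      congrArg (fun h => h.hom.hom.left) eG.inv_hom_id⟩
  haveI : Smooth (sp R C).hom := by rw [← Over.w eG.hom.hom.hom]; infer_instance
  haveI : Algebra.Smooth R C := RingHom.smooth_algebraMap.1
    ((HasRingHomProperty.Spec_iff (P := @Smooth) (φ := CommRingCat.ofHom (algebraMap R C))).1 ‹Smooth (sp R C).hom›)
  obtain ⟨eD⟩ := nonempty_DS_iso R M
  obtain ⟨A, υ, hA, h1, h2, h3⟩ := exists_representsHom_diag R M C
  exact ⟨A, _, HomRepLib.representsHom_of_iso (e.trans eD.symm) eG.symm hA, h1, h2, h3⟩

/-- Etale-locally on the base the source is diagonalisable over an affine scheme. -/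
theorem exists_affine_split {H : Over S} [GrpObj H]
    (hH : TwC.Locally S TwC.Topology.etale (fun S' g => ∃ (M : Type) (_ : AddCommGroup M),
      Nonempty (Grp.mk (Red.bc g H) ≅ Grp.mk (Red.DS S' M)))) (s : S) :
    ∃ (R : Type u) (_ : CommRing R) (f : Spec (CommRingCat.of R) ⟶ S), Etale f ∧ s ∈ Set.range f ∧
      ∃ (M : Type) (_ : AddCommGroup M),
        Nonempty (Grp.mk (Red.bc f H) ≅ Grp.mk (Red.DS (Spec (CommRingCat.of R)) M)) := by
  obtain ⟨S', g, hg, ⟨x, hx⟩, M, iM, ⟨e⟩⟩ := hH s
  obtain ⟨V, hV, hxV, -⟩ := exists_isAffineOpen_mem_and_subset (show x ∈ (⊤ : S'.Opens) from trivial)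
  obtain ⟨p, hp⟩ : x ∈ Set.range hV.fromSpec := by rw [hV.range_fromSpec]; exact hxV
  refine ⟨Γ(S', V), inferInstance, hV.fromSpec ≫ g, inferInstance, ⟨p, ?_⟩, M, iM, ?_⟩
  · exact ((Scheme.Hom.comp_apply _ _ p).trans (congrArg g hp)).trans hx
  · obtain ⟨e₁⟩ := MultTypeBC.bc_bc hV.fromSpec g H
    obtain ⟨e₂⟩ := MultTypeBC.bc_iso hV.fromSpec e
    obtain ⟨e₃⟩ := MultTypeBC.bc_DS hV.fromSpec M
    exact ⟨e₁.symm ≪≫ e₂ ≪≫ e₃⟩

/-- The functor of homomorphisms from a quasi-isotrivial group of multiplicative type to a smooth affine group is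
representable by a smooth separated scheme. -/
theorem exists_representsHom (H G : Over S) [GrpObj H] [GrpObj G]
    (hH : TwC.Locally S TwC.Topology.etale (fun S' g => ∃ (M : Type) (_ : AddCommGroup M),
      Nonempty (Grp.mk (Red.bc g H) ≅ Grp.mk (Red.DS S' M))))
    [Smooth G.hom] [IsAffineHom G.hom] :
    ∃ (A : Over S) (υ : H ⊗ A ⟶ G), AutFam.RepresentsHom H G A υ ∧ Smooth A.hom ∧ IsSeparated A.hom := by
  choose R iR f hf hs M iM he using fun s => exists_affine_split hH s
  haveI := hf
  haveI : ∀ s, Smooth (Red.bc (f s) G).hom := fun s => inferInstanceAs (Smooth (pullback.snd G.hom (f s)))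
  haveI : ∀ s, IsAffineHom (Red.bc (f s) G).hom := fun s => inferInstanceAs (IsAffineHom (pullback.snd G.hom (f s)))
  choose A υ hA hsm hsep hqa using fun s =>
    exists_representsHom_affine (Red.bc (f s) H) (Red.bc (f s) G) (M s) (he s).some
  obtain ⟨w, hw, -, huniv⟩ := HomRepLib.exists_univ f A υ hA
  let i := HomRepLib.localMap f A
  have hi_sm : Smooth i.left := HomRepLib.prop_localMap A @Smooth hsm
  have hi_sep : IsSeparated i.left := HomRepLib.prop_localMap A @IsSeparated hsep
  have hi_qa : MoreMor.IsIndQuasiAffineHom i.left := HomRepLib.prop_localMap A DescLib.IndQA.indQA hqa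
  haveI : Etale (HomRepLib.coverObj f).hom := IsZariskiLocalAtSource.sigmaDesc (P := @Etale) fun s => hf s
  haveI : Surjective (HomRepLib.coverObj f).hom := ⟨fun s => by
    obtain ⟨p, hp⟩ := hs s
    have e : Limits.Sigma.ι (fun s => Spec (CommRingCat.of (R s))) s ≫ (HomRepLib.coverObj f).hom = f s :=
      Sigma.ι_desc _ _
    exact ⟨Limits.Sigma.ι (fun s => Spec (CommRingCat.of (R s))) s p,
      ((Scheme.Hom.comp_apply _ _ p).symm.trans (congrArg (fun m => m p) e)).trans hp⟩⟩
  obtain ⟨k, q, π, sq⟩ := HomRepLib.exists_square i w hw huniv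
  have hπ : π.left = (HomRepLib.coverObj f).hom := by simpa using Over.w π
  haveI : Flat π.left := hπ ▸ inferInstance
  haveI : LocallyOfFinitePresentation π.left := hπ ▸ inferInstance
  haveI : Surjective π.left := hπ ▸ inferInstance
  have sq' : IsPullback k ((yon S).map i) q ((yon S).map π ≫ 𝟙 _) := by rw [Category.comp_id]; exact sq
  obtain ⟨W, h, k', sW⟩ := exists_rep_of_effective π (fppf_of π.left) sq' fun D hD => by
    refine (DescLib.isEffective_ofSchDD_iff π.left D).1
      (DescLib.IndQA.isEffective_of_indQA (fun _ : PUnit.{u + 1} => π.left) ?_ _ fun _ => ?_)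
    · refine Scheme.fppfPrecoverage_le_fpqcPrecoverage _ ?_
      rw [Scheme.fppfPrecoverage, Scheme.ofArrows_mem_precoverage_iff]
      exact ⟨fun t => ⟨⟨⟩, π.left.surjective t⟩, fun _ => ⟨inferInstance, inferInstance⟩⟩
    · show MoreMor.IsIndQuasiAffineHom D.obj.hom
      rw [hD]
      exact hi_qa
  haveI : IsIso k' := sW.isIso_fst_of_isIso
  obtain ⟨υ₀, hυ₀⟩ := HomRepLib.representsHom_of_iso_sheaf (asIso k')
  obtain ⟨a, -, hcart⟩ := HomRepLib.exists_cartesian i w hw huniv hυ₀
  have hcov : fppf (HomRepLib.coverObj f).hom := fppf_of _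
  haveI : MorphismProperty.DescendsAlong (@Smooth : MorphismProperty Scheme.{u}) fppf := by
    unfold fppf; infer_instance
  exact ⟨W, υ₀, hυ₀, MorphismProperty.of_isPullback_of_descendsAlong (Q := fppf) hcart.flip hcov hi_sm,
    MorphismProperty.of_isPullback_of_descendsAlong (Q := fppf) hcart.flip hcov hi_sep⟩

end Groth.Agent.MultTypeHom
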