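import Groth.Agent.MultTypeHom.Locus
import Mathlib.AlgebraicGeometry.Morphisms.FinitePresentation
import Mathlib.RingTheory.Finiteness.Basic

/-!
# The charts of the scheme of homomorphisms

Families whose weights lie in a finite set are represented by an open subscheme of an affine scheme.
-/

set_option autoImplicit false
set_option linter.style.haveILetI false

universe u

open CategoryTheory CategoryTheory.Limits MonoidalCategory CartesianMonoidalCategory MonObj AlgebraicGeometry
open TensorProduct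

noncomputable section

namespace Groth.Agent.MultTypeHom

open GrpSchLib.AffineHopf

variable {R : Type u} [CommRing R] (M : Type) [AddCommGroup M] {C : Type u} [CommRing C] [HopfAlgebra R C]
  (P : CoordRep R C)

/-- A morphism landing in the image of an open immersion factors through it. -/
theorem exists_fac_oi {S : Scheme.{u}} {V T Z : Over S} (i : V ⟶ T) [IsOpenImmersion i.left] (h : Z ⟶ T)
    (hr : Set.range h.left ⊆ Set.range i.left) : ∃ l : Z ⟶ V, l ≫ i = h := by
  refine ⟨Over.homMk (IsOpenImmersion.lift i.left h.left hr) ?_, Over.OverMorphism.ext (IsOpenImmersion.lift_fac _ _ _)⟩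
  show IsOpenImmersion.lift i.left h.left hr ≫ V.hom = Z.hom
  rw [← Over.w i, IsOpenImmersion.lift_fac_assoc, Over.w h]

/-- An affine open covering over the base. -/
theorem exists_affine_cover (T : Over (Spec (CommRingCat.of R))) :
    ∃ (σ : Type u) (A : σ → Type u) (_ : ∀ i, CommRing (A i)) (_ : ∀ i, Algebra R (A i))
      (a : ∀ i, sp R (A i) ⟶ T), (∀ i, IsOpenImmersion (a i).left) ∧ ∀ t, ∃ i, t ∈ Set.range (a i).left := by
  let V : T.left → T.left.Opens := fun t =>
    (exists_isAffineOpen_mem_and_subset (show t ∈ (⊤ : T.left.Opens) from trivial)).choose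
  have hV : ∀ t, IsAffineOpen (V t) ∧ t ∈ V t := fun t =>
    ⟨(exists_isAffineOpen_mem_and_subset (show t ∈ (⊤ : T.left.Opens) from trivial)).choose_spec.1,
      (exists_isAffineOpen_mem_and_subset (show t ∈ (⊤ : T.left.Opens) from trivial)).choose_spec.2.1⟩
  choose alg a ha using fun t => exists_sp_pt (R := R) (T := T) (A := Γ(T.left, V t)) (hV t).1.fromSpec
  refine ⟨T.left, fun t => Γ(T.left, V t), inferInstance, alg, a, fun t => ?_, fun t => ⟨t, ?_⟩⟩
  · rw [ha]; exact inferInstanceAs (IsOpenImmersion (hV t).1.fromSpec)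
  · rw [ha]; exact (hV t).1.range_fromSpec ▸ (hV t).2

/-- Morphisms agreeing on a covering by open immersions agree. -/
theorem hom_ext_cover {S : Scheme.{u}} {T Y : Over S} {σ : Type u} {V : σ → Over S} (a : ∀ i, V i ⟶ T)
    (ha : ∀ i, IsOpenImmersion (a i).left) (hc : ∀ t, ∃ i, t ∈ Set.range (a i).left) {f g : T ⟶ Y}
    (h : ∀ i, a i ≫ f = a i ≫ g) : f = g := by
  haveI := ha
  refine HomRepLib.hom_ext_pieces (fun i => (a i).left.opensRange) hc fun i => ?_
  obtain ⟨l, hl⟩ := exists_fac_oi (a i) (HomRepLib.inc T (a i).left.opensRange)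
    (by intro z hz; exact (HomRepLib.range_inc T _ hz))
  rw [← hl, Category.assoc, Category.assoc, h i]

/-- Morphisms on the members of a covering by open immersions glue. -/
theorem exists_glue_cover {S : Scheme.{u}} {T Y : Over S} {σ : Type u} {V : σ → Over S} (a : ∀ i, V i ⟶ T)
    (ha : ∀ i, IsOpenImmersion (a i).left) (hc : ∀ t, ∃ i, t ∈ Set.range (a i).left) (b : ∀ i, V i ⟶ Y)
    (hb : ∀ i j (Z : Over S) (p : Z ⟶ V i) (q : Z ⟶ V j), p ≫ a i = q ≫ a j → p ≫ b i = q ≫ b j) :
    ∃ F : T ⟶ Y, ∀ i, a i ≫ F = b i := by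
  haveI := ha
  let 𝒰 := T.left.openCoverOfIsOpenCover (fun i => (a i).left.opensRange)
    (eq_top_iff.2 fun x _ => TopologicalSpace.Opens.mem_iSup.2 (hc x))
  have hl : ∀ i, ∃ l : HomRepLib.piece T (a i).left.opensRange ⟶ V i, l ≫ a i = HomRepLib.inc T _ := fun i =>
    exists_fac_oi (a i) (HomRepLib.inc T (a i).left.opensRange) (by intro z hz; exact HomRepLib.range_inc T _ hz)
  choose l hl using hl
  have hcomp : ∀ i j, pullback.fst (𝒰.f i) (𝒰.f j) ≫ (l i ≫ b i).left =
      pullback.snd (𝒰.f i) (𝒰.f j) ≫ (l j ≫ b j).left := fun i j => by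
    let Z : Over S := Over.mk (pullback.fst (𝒰.f i) (𝒰.f j) ≫ (HomRepLib.piece T (a i).left.opensRange).hom)
    let p : Z ⟶ HomRepLib.piece T (a i).left.opensRange := Over.homMk (pullback.fst (𝒰.f i) (𝒰.f j)) rfl
    let q : Z ⟶ HomRepLib.piece T (a j).left.opensRange := Over.homMk (pullback.snd (𝒰.f i) (𝒰.f j))
      (((Category.assoc _ _ _).symm.trans (congrArg (fun k => k ≫ T.hom) pullback.condition.symm)).trans
        (Category.assoc _ _ _))
    have h1 := hb i j Z (p ≫ l i) (q ≫ l j) (by
      rw [Category.assoc, Category.assoc, hl, hl]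
      exact Over.OverMorphism.ext pullback.condition)
    simp only [Category.assoc] at h1
    exact congrArg Over.Hom.left h1
  refine ⟨Over.homMk (𝒰.glueMorphisms (fun i => (l i ≫ b i).left) hcomp)
    (Scheme.Cover.hom_ext 𝒰 _ _ fun i => ?_), fun i => ?_⟩
  · rw [← Category.assoc, 𝒰.ι_glueMorphisms]
    exact Over.w (l i ≫ b i)
  · obtain ⟨r, hr⟩ := HomRepLib.exists_fac_inc (a i).left.opensRange (a i) (by intro z hz; exact hz)
    have h2 : HomRepLib.inc T (a i).left.opensRange ≫
        (Over.homMk (𝒰.glueMorphisms (fun i => (l i ≫ b i).left) hcomp)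
          (Scheme.Cover.hom_ext 𝒰 _ _ fun i => by rw [← Category.assoc, 𝒰.ι_glueMorphisms]; exact Over.w (l i ≫ b i)) :
          T ⟶ Y) = l i ≫ b i :=
      Over.OverMorphism.ext (𝒰.ι_glueMorphisms _ hcomp i)
    conv_lhs => rw [← hr, Category.assoc, h2]
    rw [← Category.assoc]
    exact hb i i _ (r ≫ l i) (𝟙 _) (by rw [Category.assoc, hl, hr, Category.id_comp]) |>.trans (Category.id_comp _)

/-- The families with weights in a finite set are represented by an open subscheme of an affine scheme of finite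
presentation. -/
theorem exists_chart [Algebra.FinitePresentation R C] (F : Finset (Multiplicative M)) :
    ∃ (U : Over (Spec (CommRingCat.of R))) (w : Red.diag R M ⊗ U ⟶ sp R C)
      (hw : AutFam.IsHomFamily (Red.diag R M) (sp R C) w),
      LocallyOfFinitePresentation U.hom ∧
      (∃ (B : Type u) (_ : CommRing B) (i : U.left ⟶ Spec (CommRingCat.of B)), IsOpenImmersion i) ∧
      (∀ u, u ∈ locus M P hw (F : Set (Multiplicative M))) ∧
      ∀ (T : Over (Spec (CommRingCat.of R))) (φ : Red.diag R M ⊗ T ⟶ sp R C)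
        (hφ : AutFam.IsHomFamily (Red.diag R M) (sp R C) φ),
        (∀ t, t ∈ locus M P hφ (F : Set (Multiplicative M))) → ∃! a : T ⟶ U, (Red.diag R M ◁ a) ≫ w = φ := by
  classical
  obtain ⟨n, g, hg⟩ := Module.Finite.exists_fin (R := R) (M := P.W)
  let y : Fin n → C := fun k => P.j (g k)
  have hy : Algebra.adjoin R (Set.range y) = ⊤ := by
    rw [eq_top_iff, ← P.adjoin_j, Algebra.adjoin_le_iff]
    rintro _ ⟨w, rfl⟩
    have h1 : P.j w ∈ Submodule.map P.j (Submodule.span R (Set.range g)) := ⟨w, hg ▸ Submodule.mem_top, rfl⟩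
    rw [Submodule.map_span, ← Set.range_comp] at h1
    exact (Submodule.span_le.2 fun z hz => Algebra.subset_adjoin hz :
      Submodule.span R (Set.range y) ≤ Subalgebra.toSubmodule (Algebra.adjoin R (Set.range y))) h1
  obtain ⟨B, _, _, _, v, hv, hvu⟩ := exists_universal (R := R) y hy F
  let Y := sp R B
  have hfam := isHomFamily_toFam M v
  let O : Y.left.Opens := locus M P hfam (F : Set (Multiplicative M))
  let U := HomRepLib.piece Y O
  let w := (Red.diag R M ◁ HomRepLib.inc Y O) ≫ toFam M v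
  have hw : AutFam.IsHomFamily (Red.diag R M) (sp R C) w := HomRepLib.isHomFamily_comp hfam _
  -- morphisms to `Y` are determined by the family
  have hext : ∀ (T : Over (Spec (CommRingCat.of R))) (a b : T ⟶ Y),
      (Red.diag R M ◁ a) ≫ toFam M v = (Red.diag R M ◁ b) ≫ toFam M v → a = b := by
    intro T a b hab
    obtain ⟨σ, A, _, _, c, hc, hcov⟩ := exists_affine_cover T
    refine hom_ext_cover c hc hcov fun i => ?_
    obtain ⟨g₁, hg₁⟩ := exists_spMap (c i ≫ a)
    obtain ⟨g₂, hg₂⟩ := exists_spMap (c i ≫ b)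
    have h1 : v.map g₁ = v.map g₂ := toFam_injective M (by
      rw [← whiskerLeft_toFam, ← whiskerLeft_toFam, ← hg₁, ← hg₂, MonoidalCategory.whiskerLeft_comp,
        MonoidalCategory.whiskerLeft_comp, Category.assoc, Category.assoc, hab])
    rw [hg₁, hg₂, (hvu (A i) (v.map g₁) fun k m hm => by rw [AlgFam.coef_map, hv k m hm, map_zero]).unique rfl h1.symm]
  refine ⟨U, w, hw, ?_, ⟨B, inferInstance, O.ι, (show @IsOpenImmersion _ Y.left O.ι from inferInstance)⟩, fun u => ?_, fun T φ hφ hT => ?_⟩
  · haveI : LocallyOfFinitePresentation Y.hom :=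
      (HasRingHomProperty.Spec_iff (P := @LocallyOfFinitePresentation)).2
        (RingHom.finitePresentation_algebraMap.2 inferInstance)
    exact inferInstanceAs (LocallyOfFinitePresentation (O.ι ≫ Y.hom))
  · exact (locus_comp M P hfam (HomRepLib.inc Y O) _ u).2 u.2
  obtain ⟨σ, A, _, _, c, hc, hcov⟩ := exists_affine_cover T
  have hloc : ∀ i, ∃ g : B →ₐ[R] A i, (Red.diag R M ◁ spMap g) ≫ toFam M v = (Red.diag R M ◁ c i) ≫ φ := fun i => by
    obtain ⟨g, hg', -⟩ := hvu (A i) (algOf M hφ (c i))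
      fun k m hm => AlgFam.coef_j P (good_algOf M P hφ hT (c i)) hm _
    exact ⟨g, by rw [whiskerLeft_toFam, hg', toFam_algOf]⟩
  choose gB hgB using hloc
  obtain ⟨b, hb⟩ := exists_glue_cover c hc hcov (fun i => spMap (gB i)) fun i j Z p q hpq => hext Z _ _ (by
    simp only [MonoidalCategory.whiskerLeft_comp, Category.assoc, hgB]
    rw [← MonoidalCategory.whiskerLeft_comp_assoc, hpq, MonoidalCategory.whiskerLeft_comp_assoc])
  have hbφ : (Red.diag R M ◁ b) ≫ toFam M v = φ := by
    refine HomRepLib.hom_ext_pieces (fun i => (snd (Red.diag R M) T).left ⁻¹ᵁ (c i).left.opensRange)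
      (fun z => hcov _) fun i => ?_
    let h := HomRepLib.inc (Red.diag R M ⊗ T) ((snd (Red.diag R M) T).left ⁻¹ᵁ (c i).left.opensRange)
    haveI := hc i
    obtain ⟨l, hl⟩ := exists_fac_oi (c i) (h ≫ snd _ _) (by rintro _ ⟨z, rfl⟩; exact z.2)
    have e : h = CartesianMonoidalCategory.lift (h ≫ fst _ _) l ≫ (Red.diag R M ◁ c i) := by
      rw [CartesianMonoidalCategory.lift_whiskerLeft, hl, ← comp_lift, lift_fst_snd, Category.comp_id]
    show h ≫ _ = h ≫ _
    rw [e, Category.assoc, Category.assoc, ← MonoidalCategory.whiskerLeft_comp_assoc, hb, hgB]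
  have hrange : Set.range b.left ⊆ (O : Set Y.left) := by
    rintro _ ⟨t, rfl⟩
    refine (locus_comp M P hfam b _ t).1 ?_
    have h := hT t
    subst hbφ
    exact h
  obtain ⟨a, ha⟩ := HomRepLib.exists_fac_inc O b hrange
  refine ⟨a, ?_, fun a' ha' => ?_⟩
  · show (Red.diag R M ◁ a) ≫ (Red.diag R M ◁ HomRepLib.inc Y O) ≫ toFam M v = φ
    rw [← MonoidalCategory.whiskerLeft_comp_assoc, ha, hbφ]
  · haveI : Mono (HomRepLib.inc Y O) := Over.mono_of_mono_left _
    rw [← cancel_mono (HomRepLib.inc Y O), ha]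
    refine hext T _ _ ?_
    rw [hbφ, MonoidalCategory.whiskerLeft_comp, Category.assoc]
    exact ha'

end Groth.Agent.MultTypeHom
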