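import Groth.Agent.MultTypeHom.Points
import Groth.Agent.MultTypeLib.PointLift
import Groth.Agent.MultTypeLib.Build

/-!
# Families of homomorphisms from diagonalisable groups to smooth groups lift along square zero ideals
-/

set_option autoImplicit false
set_option linter.style.haveILetI false

universe u

open CategoryTheory CategoryTheory.Limits MonoidalCategory CartesianMonoidalCategory MonObj AlgebraicGeometry
open TensorProduct WithConv

noncomputable section

namespace Groth.Agent.MultTypeHom

open GrpSchLib.AffineHopf MultTypeLib MultTypeLib.FixedLift MultTypeLib.PointAverage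

variable {R : Type u} [CommRing R]

theorem isMultType_monoidAlgebra (B : Type u) [CommRing B] (M : Type) [AddCommGroup M] :
    SGA3b.IsMultType B (MonoidAlgebra B (Multiplicative M)) :=
  isMultType_of_ff B ⟨ULift.{u} (Multiplicative M), inferInstance,
    ⟨(scalarBialgEquiv B B (Multiplicative M)).symm.trans
      (MonoidAlgebra.domCongrBialgEquiv B B MulEquiv.ulift.symm)⟩⟩

section Over

variable {B : Type u} [CommRing B] [Algebra R B]

/-- The structure map of the spectrum of an algebra. -/
abbrev tB (B : Type u) [CommRing B] [Algebra R B] : Spec (CommRingCat.of B) ⟶ Spec (CommRingCat.of R) :=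
  Spec.map (CommRingCat.ofHom (algebraMap R B))

variable (T : Type u) [CommRing T] [Algebra B T] [Algebra R T] [IsScalarTower R B T]

theorem hom_OT : (OT (tB (R := R) B) T).hom = (sp R T).hom := by
  show Spec.map (CommRingCat.ofHom (algebraMap B T)) ≫ Spec.map (CommRingCat.ofHom (algebraMap R B)) =
    Spec.map (CommRingCat.ofHom (algebraMap R T))
  rw [← Spec.map_comp, ← CommRingCat.ofHom_comp, ← IsScalarTower.algebraMap_eq]

/-- A point over an algebra is a point over the base. -/
def eo : OT (tB (R := R) B) T ⟶ sp R T := Over.homMk (𝟙 _) ((Category.id_comp _).trans (hom_OT T).symm)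

/-- A point over the base is a point over an algebra. -/
def eo' : sp R T ⟶ OT (tB (R := R) B) T := Over.homMk (𝟙 _) ((Category.id_comp _).trans (hom_OT T))

theorem eo'_eo : eo' (R := R) (B := B) T ≫ eo T = 𝟙 _ := Over.OverMorphism.ext (Category.id_comp _)

theorem eo_eo' : eo (R := R) (B := B) T ≫ eo' T = 𝟙 _ := Over.OverMorphism.ext (Category.id_comp _)

variable {T} {T' : Type u} [CommRing T'] [Algebra B T'] [Algebra R T'] [IsScalarTower R B T']

theorem OTm_eo (f : T →ₐ[B] T') :
    OTm (tB (R := R) B) f ≫ eo T = eo T' ≫ spMap (f.restrictScalars R) :=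
  Over.OverMorphism.ext ((Category.comp_id _).trans (Category.id_comp _).symm)

end Over

variable (M : Type) [AddCommGroup M] {C : Type u} [CommRing C] [HopfAlgebra R C]

local notation "N" => Multiplicative M

/-- Points satisfying the homomorphism identity give algebraic identities. -/
theorem conv_eq {T : Type u} [CommRing T] [Algebra R T] {F G H : C →ₐ[R] T}
    (h : spMap F * spMap G = spMap H) (c : C) :
    Algebra.TensorProduct.lift F G (fun _ _ => Commute.all _ _) (Coalgebra.comul (R := R) c) = H c := by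
  rw [spMap_mul] at h
  rw [← spMap_injective h, AlgHom.convMul_apply]

theorem comul_of (B : Type u) [CommRing B] (n : N) :
    Bialgebra.comulAlgHom B (MonoidAlgebra B N) (MonoidAlgebra.of B N n) =
      MonoidAlgebra.of B N n ⊗ₜ[B] MonoidAlgebra.of B N n := by
  simp

set_option maxHeartbeats 1600000 in
/-- A homomorphism over a quotient by a square zero ideal lifts. -/
theorem exists_algFam_lift [Smooth (sp R C).hom] {B : Type u} [CommRing B] [Algebra R B] (I : Ideal B)
    (hI : I * I = ⊥) (f : AlgFam R C N (B ⧸ I)) :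
    ∃ f' : AlgFam R C N B, f'.map (Ideal.Quotient.mkₐ R I) = f := by
  classical
  let A := MonoidAlgebra B N
  let Q := A ⧸ JT I A
  let q : A →ₐ[B] Q := qT I A
  let iQ : B ⧸ I →ₐ[B] Q := Ideal.Quotient.liftₐ I (Algebra.ofId B Q) fun r hr => by
    show algebraMap B Q r = 0
    rw [← q.commutes]
    exact Ideal.Quotient.eq_zero_iff_mem.2 (Ideal.mem_map_of_mem _ hr)
  letI : Algebra (B ⧸ I) Q := iQ.toRingHom.toAlgebra
  let gQ : N →* Q := q.toRingHom.toMonoidHom.comp (MonoidAlgebra.of B N)
  let πr : MonoidAlgebra (B ⧸ I) N →ₐ[B ⧸ I] Q := MonoidAlgebra.lift (B ⧸ I) Q N gQ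
  have hπs : ∀ (n : N) (r : B), πr (MonoidAlgebra.single n (Ideal.Quotient.mk I r)) = q (MonoidAlgebra.single n r) := by
    intro n r
    rw [MonoidAlgebra.lift_single, Algebra.smul_def]
    show iQ (Ideal.Quotient.mk I r) * q (MonoidAlgebra.single n 1) = _
    rw [show iQ (Ideal.Quotient.mk I r) = q (algebraMap B A r) from (q.commutes r).symm, ← map_mul]
    congr 1
    simp [A]
  let π : MonoidAlgebra (B ⧸ I) N →ₐ[R] Q :=
    { πr.toRingHom with
      commutes' := fun r => by
        show πr (algebraMap R _ r) = algebraMap R Q r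
        rw [show algebraMap R (MonoidAlgebra (B ⧸ I) N) r =
          MonoidAlgebra.single 1 (Ideal.Quotient.mk I (algebraMap R B r)) from rfl, hπs,
          show MonoidAlgebra.single (1 : N) (algebraMap R B r) = algebraMap R A r from rfl]
        exact (q.restrictScalars R).commutes r }
  let φ₀ : OT (tB (R := R) B) Q ⟶ sp R C := eo Q ≫ spMap (π.comp f.hom)
  -- the homomorphism identity
  have h0 : HomMod (tB (R := R) B) I φ₀ := by
    intro T _ _ a b h hh
    letI : Algebra R T := ((algebraMap B T).comp (algebraMap R B)).toAlgebra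
    haveI : IsScalarTower R B T := IsScalarTower.of_algebraMap_eq fun _ => rfl
    have hab : a.comp iQ = b.comp iQ := Ideal.Quotient.algHom_ext _ (Subsingleton.elim _ _)
    letI : Algebra (B ⧸ I) T := (a.comp iQ).toRingHom.toAlgebra
    let Φ : MonoidAlgebra (B ⧸ I) (N × N) →ₐ[B ⧸ I] T := MonoidAlgebra.lift (B ⧸ I) T (N × N)
      ((a.toRingHom.toMonoidHom.comp gQ).coprod (b.toRingHom.toMonoidHom.comp gQ))
    let Φ' : MonoidAlgebra (B ⧸ I) (N × N) →ₐ[R] T :=
      { Φ.toRingHom with
        commutes' := fun r => by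
          show Φ (algebraMap R _ r) = algebraMap R T r
          rw [show algebraMap R (MonoidAlgebra (B ⧸ I) (N × N)) r =
            algebraMap (B ⧸ I) _ (Ideal.Quotient.mk I (algebraMap R B r)) from rfl, Φ.commutes]
          exact (a.comp iQ).commutes _ }
    have hh' : ∀ n : N, h (gQ n) = a (gQ n) * b (gQ n) := fun n => by
      have := AlgHom.congr_fun hh (MonoidAlgebra.of B N n)
      simp only [AlgHom.comp_apply, PointAverage.star] at this
      rw [show gQ n = q (MonoidAlgebra.of B N n) from rfl, this]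
      rw [comul_of]; rfl
    have h₁ : Φ'.comp (MonoidAlgebra.mapDomainAlgHom R (B ⧸ I) (MonoidHom.inl N N)) =
        (a.restrictScalars R).comp π := by
      refine MonoidAlgebra.algHom_ext (fun n => ?_) (AlgHom.ext fun x => ?_)
      · simp [Φ', Φ, π, πr]
      · simp [Φ', Φ, π, πr, RingHom.algebraMap_toAlgebra, Algebra.smul_def]
    have h₂ : Φ'.comp (MonoidAlgebra.mapDomainAlgHom R (B ⧸ I) (MonoidHom.inr N N)) =
        (b.restrictScalars R).comp π := by
      refine MonoidAlgebra.algHom_ext (fun n => ?_) (AlgHom.ext fun x => ?_)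
      · simp [Φ', Φ, π, πr]
      · simp [Φ', Φ, π, πr, RingHom.algebraMap_toAlgebra, Algebra.smul_def]
        exact AlgHom.congr_fun hab x
    have h₃ : Φ'.comp (MonoidAlgebra.mapDomainAlgHom R (B ⧸ I) ((MonoidHom.id N).prod (MonoidHom.id N))) =
        (h.restrictScalars R).comp π := by
      refine MonoidAlgebra.algHom_ext (fun n => ?_) (AlgHom.ext fun x => ?_)
      · simp [Φ', Φ, π, πr, hh']
      · simp [Φ', Φ, π, πr, RingHom.algebraMap_toAlgebra, Algebra.smul_def]
        exact AlgHom.congr_fun (Ideal.Quotient.algHom_ext _ (Subsingleton.elim _ _) : a.comp iQ = h.comp iQ) x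
    have hconv : spMap ((a.restrictScalars R).comp (π.comp f.hom)) * spMap ((b.restrictScalars R).comp (π.comp f.hom)) =
        spMap ((h.restrictScalars R).comp (π.comp f.hom)) := by
      rw [spMap_mul]
      congr 1
      refine AlgHom.ext fun c => ?_
      rw [AlgHom.convMul_apply, ← AlgHom.comp_assoc, ← AlgHom.comp_assoc, ← AlgHom.comp_assoc, ← h₁, ← h₂, ← h₃]
      have e : Algebra.TensorProduct.lift
          ((Φ'.comp (MonoidAlgebra.mapDomainAlgHom R (B ⧸ I) (MonoidHom.inl N N))).comp f.hom)
          ((Φ'.comp (MonoidAlgebra.mapDomainAlgHom R (B ⧸ I) (MonoidHom.inr N N))).comp f.hom)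
          (fun _ _ => Commute.all _ _) = Φ'.comp (Algebra.TensorProduct.lift
          ((MonoidAlgebra.mapDomainAlgHom R (B ⧸ I) (MonoidHom.inl N N)).comp f.hom)
          ((MonoidAlgebra.mapDomainAlgHom R (B ⧸ I) (MonoidHom.inr N N)).comp f.hom)
          (fun _ _ => Commute.all _ _)) := Algebra.TensorProduct.ext' fun x y => by simp
      refine (AlgHom.congr_fun e _).trans ?_
      exact congrArg Φ' (f.mul c).symm
    have e : ∀ z : Q →ₐ[B] T, OTm (tB (R := R) B) z ≫ φ₀ = eo T ≫ spMap ((z.restrictScalars R).comp (π.comp f.hom)) :=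
      fun z => by rw [← Category.assoc, OTm_eo, Category.assoc, spMap_comp]
    rw [e, e, e, ← MonObj.comp_mul, hconv]
  obtain ⟨φ, hφ, hhom⟩ := PointLift.exists_hom_lift (tB (R := R) B) I ⟨2, by rw [pow_two, hI]; rfl⟩ A
    (isMultType_monoidAlgebra B M) φ₀ h0
  obtain ⟨ψ, hψ⟩ := exists_eq_spMap (eo' A ≫ φ)
  have hφ' : φ = eo A ≫ spMap ψ := by rw [← hψ, ← Category.assoc, eo_eo', Category.id_comp]
  -- the lifted family
  let a : A →ₐ[B] MonoidAlgebra B (N × N) := MonoidAlgebra.mapDomainAlgHom B B (MonoidHom.inl N N)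
  let b : A →ₐ[B] MonoidAlgebra B (N × N) := MonoidAlgebra.mapDomainAlgHom B B (MonoidHom.inr N N)
  let d : A →ₐ[B] MonoidAlgebra B (N × N) := MonoidAlgebra.mapDomainAlgHom B B ((MonoidHom.id N).prod (MonoidHom.id N))
  have hd : star a b = d := MonoidAlgebra.algHom_ext (fun n => by
    show Algebra.TensorProduct.lift a b (fun _ _ => Commute.all _ _) (Bialgebra.comulAlgHom B A (MonoidAlgebra.of B N n)) = _
    rw [comul_of]; simp only [A, a, b, d]; simp) (Subsingleton.elim _ _)
  have hmul : spMap ((a.restrictScalars R).comp ψ) * spMap ((b.restrictScalars R).comp ψ) =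
      spMap ((d.restrictScalars R).comp ψ) := by
    have h1 := hhom _ a b
    rw [hd, hφ'] at h1
    simp only [← Category.assoc, OTm_eo] at h1
    simp only [Category.assoc, spMap_comp, ← MonObj.comp_mul] at h1
    simpa only [← Category.assoc, eo'_eo, Category.id_comp] using congrArg (fun m => eo' _ ≫ m) h1
  refine ⟨⟨ψ, fun c => (conv_eq hmul c).symm⟩, AlgFam.ext' ?_⟩
  -- the reduction
  have hred : (q.restrictScalars R).comp ψ = π.comp f.hom := by
    refine spMap_injective ?_
    rw [← spMap_comp, ← hψ]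
    have h1 : eo' Q ≫ OTm (tB (R := R) B) q ≫ φ = eo' Q ≫ φ₀ := congrArg (eo' Q ≫ ·) hφ
    rw [hφ', ← Category.assoc (OTm _ _), OTm_eo, Category.assoc, ← Category.assoc (eo' Q), eo'_eo,
      Category.id_comp, ← Category.assoc (eo' Q), eo'_eo, Category.id_comp] at h1
    rw [hψ]
    exact h1
  let ρ : A →ₐ[R] MonoidAlgebra (B ⧸ I) N := MonoidAlgebra.mapAlgHom N (Ideal.Quotient.mkₐ R I)
  have hρ : ∀ x ∈ JT I A, ρ x = 0 := by
    intro x hx
    rw [← RingHom.mem_ker]
    refine (Ideal.map_le_iff_le_comap.2 fun r hr => ?_ : JT I A ≤ RingHom.ker ρ.toRingHom) hx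
    simp [ρ, A, RingHom.mem_ker, Ideal.Quotient.eq_zero_iff_mem.2 hr]
  let ρQ : Q →ₐ[R] MonoidAlgebra (B ⧸ I) N := Ideal.Quotient.liftₐ _ ρ hρ
  have hρπ : ρQ.comp π = AlgHom.id R _ := AlgHom.ext fun x => by
    induction x using MonoidAlgebra.induction_linear with
    | zero => simp
    | add x y hx hy => simp only [map_add, hx, hy]
    | single n r =>
      obtain ⟨r, rfl⟩ := Ideal.Quotient.mk_surjective r
      show ρQ (πr _) = _
      rw [hπs]
      show ρ (MonoidAlgebra.single n r) = _
      exact MonoidAlgebra.mapAlgHom_single _ _ _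
  have := congrArg ρQ.comp hred
  rw [← AlgHom.comp_assoc, ← AlgHom.comp_assoc, hρπ, AlgHom.id_comp] at this
  exact this

end Groth.Agent.MultTypeHom
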