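import Groth.Agent.MultTypeHom.Supp
import Mathlib.RingTheory.FinitePresentation

/-!
# The scheme of homomorphisms with bounded coefficients

Homomorphisms from a diagonalisable group to a finitely presented affine group whose values on given generators have
supports in a given finite set of characters are represented by a finitely presented algebra.
-/

set_option autoImplicit false
set_option maxHeartbeats 800000

universe u v

open TensorProduct Coalgebra

noncomputable section

namespace Groth.Agent.MultTypeHom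

variable {R C : Type u} [CommRing R] [CommRing C] [HopfAlgebra R C] {N : Type v} [CommGroup N]

section Diag

variable (A : Type u) [CommRing A] [Algebra R A]

/-- The map of group algebras induced by the diagonal. -/
def diagHom : MonoidAlgebra A N →ₐ[R] MonoidAlgebra A (N × N) :=
  MonoidAlgebra.mapDomainAlgHom R A ((MonoidHom.id N).prod (MonoidHom.id N))

theorem diagHom_apply (x : MonoidAlgebra A N) :
    diagHom (R := R) A x = MonoidAlgebra.mapDomain (fun n => (n, n)) x := rfl

variable {A}

/-- The two sides of the condition to be a homomorphism, as one map. -/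
def prodHom (φ : C →ₐ[R] MonoidAlgebra A N) : C →ₐ[R] MonoidAlgebra A (N × N) :=
  (Algebra.TensorProduct.lift ((MonoidAlgebra.mapDomainAlgHom R A (MonoidHom.inl N N)).comp φ)
      ((MonoidAlgebra.mapDomainAlgHom R A (MonoidHom.inr N N)).comp φ) (fun _ _ => Commute.all _ _)).comp
    (Bialgebra.comulAlgHom R C)

theorem map_prodHom {A' : Type u} [CommRing A'] [Algebra R A'] (g : A →ₐ[R] A')
    (φ : C →ₐ[R] MonoidAlgebra A N) (c : C) :
    MonoidAlgebra.mapAlgHom (N × N) g (prodHom φ c) = prodHom ((MonoidAlgebra.mapAlgHom N g).comp φ) c := by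
  have hnat : ∀ (i : N →* N × N) (x : MonoidAlgebra A N),
      MonoidAlgebra.mapAlgHom (N × N) g (MonoidAlgebra.mapDomainAlgHom R A i x) =
        MonoidAlgebra.mapDomainAlgHom R A' i (MonoidAlgebra.mapAlgHom N g x) := fun i x => by
    induction x using MonoidAlgebra.induction_linear with
    | zero => simp
    | add x y hx hy => simp only [map_add, hx, hy]
    | single a r => simp
  simp only [prodHom, AlgHom.comp_apply, Bialgebra.comulAlgHom_apply]
  generalize comul (R := R) c = z
  induction z using TensorProduct.induction_on with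
  | zero => simp
  | add a b ha hb => simp only [map_add, ha, hb]
  | tmul a b => simp only [Algebra.TensorProduct.lift_tmul, AlgHom.comp_apply, map_mul, hnat]

theorem map_diagHom {A' : Type u} [CommRing A'] [Algebra R A'] (g : A →ₐ[R] A') (x : MonoidAlgebra A N) :
    MonoidAlgebra.mapAlgHom (N × N) g (diagHom (R := R) A x) = diagHom (R := R) A' (MonoidAlgebra.mapAlgHom N g x) := by
  induction x using MonoidAlgebra.induction_linear with
  | zero => simp
  | add x y hx hy => simp only [map_add, hx, hy]
  | single a r => simp [diagHom]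

theorem coeff_mapAlgHom {A' : Type u} [CommRing A'] [Algebra R A'] {M' : Type v} [CommGroup M'] (g : A →ₐ[R] A')
    (x : MonoidAlgebra A M') (m : M') : (MonoidAlgebra.mapAlgHom M' g x).coeff m = g (x.coeff m) := by
  simp

/-- A map of group algebras kills what has coefficients in an ideal killed by the map of rings. -/
theorem mapAlgHom_eq_zero {A' : Type u} [CommRing A'] [Algebra R A'] {M' : Type v} [CommGroup M'] (g : A →ₐ[R] A')
    (x : MonoidAlgebra A M') (h : ∀ m ∈ x.coeff.support, g (x.coeff m) = 0) :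
    MonoidAlgebra.mapAlgHom M' g x = 0 := by
  ext m
  rw [coeff_mapAlgHom]
  by_cases hm : m ∈ x.coeff.support
  · simpa using h m hm
  · simp [Finsupp.notMem_support_iff.1 hm]

end Diag

/-- The quotient by finitely many elements. -/
theorem exists_quot (P : Type u) [CommRing P] [Algebra R P] [Algebra.FinitePresentation R P] (s : Finset P) :
    ∃ (B : Type u) (_ : CommRing B) (_ : Algebra R B) (_ : Algebra.FinitePresentation R B) (q : P →ₐ[R] B),
      Function.Surjective q ∧ (∀ x ∈ s, q x = 0) ∧
      ∀ (A : Type u) [CommRing A] [Algebra R A] (g : P →ₐ[R] A), (∀ x ∈ s, g x = 0) →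
        ∃ g' : B →ₐ[R] A, g'.comp q = g := by
  let I : Ideal P := Ideal.span s
  refine ⟨P ⧸ I, inferInstance, inferInstance, Algebra.FinitePresentation.quotient (⟨s, rfl⟩ : I.FG),
    Ideal.Quotient.mkₐ R I, Ideal.Quotient.mkₐ_surjective R I,
    fun x hx => Ideal.Quotient.eq_zero_iff_mem.2 (Ideal.subset_span hx), fun A _ _ g hg => ?_⟩
  exact ⟨Ideal.Quotient.liftₐ I g fun x hx => (Ideal.span_le.2 (fun z hz => hg z hz) : I ≤ RingHom.ker g) hx,
    AlgHom.ext fun x => rfl⟩

/-- Homomorphisms with coefficients supported in a finite set are represented by a finitely presented algebra. -/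
theorem exists_universal [Algebra.FinitePresentation R C] {n : ℕ} (y : Fin n → C)
    (hy : Algebra.adjoin R (Set.range y) = ⊤) (F : Finset N) :
    ∃ (B : Type u) (_ : CommRing B) (_ : Algebra R B) (_ : Algebra.FinitePresentation R B)
      (u : AlgFam R C N B), (∀ k, ∀ m ∉ F, u.coef m (y k) = 0) ∧
      ∀ (A : Type u) [CommRing A] [Algebra R A] (f : AlgFam R C N A), (∀ k, ∀ m ∉ F, f.coef m (y k) = 0) →
        ∃! g : B →ₐ[R] A, u.map g = f := by
  classical
  let σ : Type := Fin n × Fin F.card
  let e : Fin F.card ≃ F := F.equivFin.symm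
  let P := MvPolynomial σ R
  let φ0 : MvPolynomial (Fin n) R →ₐ[R] MonoidAlgebra P N :=
    MvPolynomial.aeval fun k => ∑ i, MonoidAlgebra.single (e i : N) (MvPolynomial.X (k, i))
  let π : MvPolynomial (Fin n) R →ₐ[R] C := MvPolynomial.aeval y
  have hπ : Function.Surjective π := by
    rw [← AlgHom.range_eq_top, ← Algebra.adjoin_range_eq_range_aeval, hy]
  obtain ⟨T, hT⟩ := Algebra.FinitePresentation.ker_fG_of_surjective π hπ
  let s1 : Finset P := T.biUnion fun t => (φ0 t).coeff.support.image fun m => (φ0 t).coeff m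
  obtain ⟨B1, _, _, _, q1, hq1, hq1z, hq1u⟩ := exists_quot (R := R) P s1
  have hker : RingHom.ker π.toRingHom ≤
      RingHom.ker ((MonoidAlgebra.mapAlgHom N q1).comp φ0).toRingHom := by
    rw [show RingHom.ker π.toRingHom = Ideal.span (T : Set (MvPolynomial (Fin n) R)) from hT.symm, Ideal.span_le]
    intro t ht
    show (MonoidAlgebra.mapAlgHom N q1) (φ0 t) = 0
    exact mapAlgHom_eq_zero _ _ fun m hm => hq1z _
      (Finset.mem_biUnion.2 ⟨t, ht, Finset.mem_image_of_mem _ hm⟩)
  let φ1 : C →ₐ[R] MonoidAlgebra B1 N := AlgHom.liftOfSurjective π hπ _ hker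
  have hφ1 : φ1.comp π = (MonoidAlgebra.mapAlgHom N q1).comp φ0 :=
    AlgHom.liftOfSurjective_comp ..
  let d : Fin n → MonoidAlgebra B1 (N × N) := fun k => diagHom (R := R) B1 (φ1 (y k)) - prodHom φ1 (y k)
  let s2 : Finset B1 := Finset.univ.biUnion fun k => (d k).coeff.support.image fun m => (d k).coeff m
  obtain ⟨B, _, _, _, q2, hq2, hq2z, hq2u⟩ := exists_quot (R := R) B1 s2
  let φ2 : C →ₐ[R] MonoidAlgebra B N := (MonoidAlgebra.mapAlgHom N q2).comp φ1
  have hgen : (diagHom (R := R) B).comp φ2 = prodHom φ2 := by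
    refine AlgHom.ext_of_adjoin_eq_top hy ?_
    rintro _ ⟨k, rfl⟩
    have h0 : MonoidAlgebra.mapAlgHom (N × N) q2 (d k) = 0 :=
      mapAlgHom_eq_zero _ _ fun m hm => hq2z _
        (Finset.mem_biUnion.2 ⟨k, Finset.mem_univ _, Finset.mem_image_of_mem _ hm⟩)
    rw [map_sub, sub_eq_zero, map_diagHom, map_prodHom] at h0
    exact h0
  let u : AlgFam R C N B := ⟨φ2, fun c => AlgHom.congr_fun hgen c⟩
  have hφ0X : ∀ k, φ0 (MvPolynomial.X k) = ∑ i, MonoidAlgebra.single (e i : N) (MvPolynomial.X (k, i)) := fun k =>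
    MvPolynomial.aeval_X _ _
  let X2 : σ → B := fun p => q2 (q1 (MvPolynomial.X p))
  have hu : ∀ k, u.hom (y k) = ∑ i, MonoidAlgebra.single (e i : N) (X2 (k, i)) := fun k => by
    show MonoidAlgebra.mapAlgHom N q2 (φ1 (y k)) = _
    rw [show y k = π (MvPolynomial.X k) from (MvPolynomial.aeval_X _ _).symm,
      show φ1 (π (MvPolynomial.X k)) = _ from AlgHom.congr_fun hφ1 (MvPolynomial.X k), AlgHom.comp_apply, hφ0X,
      map_sum, map_sum]
    simp [X2]
  refine ⟨B, inferInstance, inferInstance, inferInstance, u, fun k m hm => ?_, fun A _ _ f hf => ?_⟩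
  · show (u.hom (y k)).coeff m = 0
    rw [hu, MonoidAlgebra.coeff_sum, Finsupp.finset_sum_apply]
    refine Finset.sum_eq_zero fun i _ => ?_
    rw [MonoidAlgebra.coeff_single, Finsupp.single_apply, if_neg]
    rintro rfl
    exact hm (e i).2
  · let g0 : P →ₐ[R] A := MvPolynomial.aeval fun p => f.coef (e p.2 : N) (y p.1)
    have h0 : (MonoidAlgebra.mapAlgHom N g0).comp φ0 = f.hom.comp π := by
      refine MvPolynomial.algHom_ext fun k => ?_
      rw [AlgHom.comp_apply, AlgHom.comp_apply, hφ0X, map_sum, show π (MvPolynomial.X k) = y k from MvPolynomial.aeval_X _ _]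
      ext m
      rw [MonoidAlgebra.coeff_sum, Finsupp.finset_sum_apply]
      simp only [MonoidAlgebra.mapAlgHom_single, MonoidAlgebra.coeff_single, Finsupp.single_apply, g0,
        MvPolynomial.aeval_X]
      by_cases hm : m ∈ F
      · rw [Finset.sum_eq_single (e.symm ⟨m, hm⟩) (fun i _ hi => if_neg fun h => hi (by
          rw [Equiv.eq_symm_apply]; exact Subtype.ext h)) (by simp)]
        erw [MvPolynomial.aeval_X]
        simp [AlgFam.coef]
      · rw [Finset.sum_eq_zero fun i _ => if_neg fun h => hm (by rw [← h]; exact (e i).2)]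
        exact (hf k m hm).symm
    have hI1 : ∀ z ∈ s1, g0 z = 0 := fun z hz => by
      obtain ⟨t, ht, hz'⟩ := Finset.mem_biUnion.1 hz
      obtain ⟨m, -, rfl⟩ := Finset.mem_image.1 hz'
      have h1 : MonoidAlgebra.mapAlgHom N g0 (φ0 t) = 0 := by
        rw [← AlgHom.comp_apply, h0, AlgHom.comp_apply,
          show π t = 0 from RingHom.mem_ker.1 ((hT ▸ Ideal.subset_span ht : t ∈ RingHom.ker π.toRingHom)), map_zero]
      rw [← coeff_mapAlgHom, h1]
      simp
    obtain ⟨g1, hg1⟩ := hq1u A g0 hI1
    have h1 : (MonoidAlgebra.mapAlgHom N g1).comp φ1 = f.hom := by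
      refine AlgHom.ext fun c => ?_
      obtain ⟨p, rfl⟩ := hπ c
      rw [AlgHom.comp_apply, show φ1 (π p) = _ from AlgHom.congr_fun hφ1 p, AlgHom.comp_apply,
        ← AlgHom.comp_apply f.hom, ← h0, AlgHom.comp_apply]
      ext m
      simp [← hg1]
    have hI2 : ∀ z ∈ s2, g1 z = 0 := fun z hz => by
      obtain ⟨k, -, hz'⟩ := Finset.mem_biUnion.1 hz
      obtain ⟨m, -, rfl⟩ := Finset.mem_image.1 hz'
      have h2 : MonoidAlgebra.mapAlgHom (N × N) g1 (d k) = 0 := by
        rw [map_sub, map_diagHom, map_prodHom, h1, sub_eq_zero,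
          show MonoidAlgebra.mapAlgHom N g1 (φ1 (y k)) = f.hom (y k) from AlgHom.congr_fun h1 _]
        exact f.mul (y k)
      rw [← coeff_mapAlgHom, h2]
      simp
    obtain ⟨g, hg⟩ := hq2u A g1 hI2
    refine ⟨g, AlgFam.ext' ?_, fun g' hg' => ?_⟩
    · show (MonoidAlgebra.mapAlgHom N g).comp φ2 = f.hom
      refine AlgHom.ext fun c => ?_
      conv_rhs => rw [← h1]
      simp only [φ2, AlgHom.comp_apply]
      ext m
      simp [← hg]
    · refine (AlgHom.cancel_right hq2).1 ((AlgHom.cancel_right hq1).1 (MvPolynomial.algHom_ext fun p => ?_))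
      obtain ⟨k, i⟩ := p
      have h2 : (u.map g').coef (e i : N) (y k) = f.coef (e i : N) (y k) := by rw [hg']
      rw [AlgFam.coef_map] at h2
      have h3 : u.coef (e i : N) (y k) = X2 (k, i) := by
        show (u.hom (y k)).coeff _ = _
        rw [hu, MonoidAlgebra.coeff_sum, Finsupp.finset_sum_apply, Finset.sum_eq_single i
          (fun j _ hj => by
            rw [MonoidAlgebra.coeff_single, Finsupp.single_apply, if_neg fun h => hj (e.injective (Subtype.ext h))])
          (by simp)]
        simp
      rw [h3] at h2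
      rw [hg, hg1]
      simpa [g0, X2] using h2

end Groth.Agent.MultTypeHom
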