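import Groth.Agent.MultTypeHom.Points
import Groth.Agent.MultTypeHom.Universal
import Groth.Agent.HomRepLib.Fam
import Groth.Agent.HomRepLib.Split
import Mathlib.AlgebraicGeometry.ResidueField

/-!
# The open loci where the weights of a family lie in a given set
-/

set_option autoImplicit false
set_option linter.style.haveILetI false

universe u

open CategoryTheory CategoryTheory.Limits MonoidalCategory CartesianMonoidalCategory MonObj AlgebraicGeometry
open TensorProduct

noncomputable section

namespace Groth.Agent.MultTypeHom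

open GrpSchLib.AffineHopf

variable {R : Type u} [CommRing R] (M : Type) [AddCommGroup M] {C : Type u} [CommRing C] [HopfAlgebra R C]
  (P : CoordRep R C) {T : Over (Spec (CommRingCat.of R))}

/-- Morphisms of spectra over the base come from maps of algebras. -/
theorem exists_spMap {A B : Type u} [CommRing A] [Algebra R A] [CommRing B] [Algebra R B] (g : sp R A ⟶ sp R B) :
    ∃ f : B →ₐ[R] A, g = spMap f := by
  let ψ := Spec.preimage g.left
  have hψ : Spec.map ψ = g.left := Spec.map_preimage _
  have hcomp : CommRingCat.ofHom (algebraMap R B) ≫ ψ = CommRingCat.ofHom (algebraMap R A) := by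
    apply Spec.map_injective
    rw [Spec.map_comp, hψ]
    exact Over.w g
  exact ⟨{ ψ.hom with commutes' := fun r => congr($(hcomp).hom r) }, Over.OverMorphism.ext hψ.symm⟩

/-- A morphism from an affine scheme to a scheme over the base makes its ring an algebra. -/
theorem exists_sp_pt {A : Type u} [CommRing A] (j : Spec (CommRingCat.of A) ⟶ T.left) :
    ∃ _ : Algebra R A, ∃ a : sp R A ⟶ T, a.left = j := by
  let ψ := Spec.preimage (j ≫ T.hom)
  letI : Algebra R A := ψ.hom.toAlgebra
  exact ⟨inferInstance, Over.homMk j (Spec.map_preimage (j ≫ T.hom)).symm, rfl⟩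

section AlgOf

variable {φ : Red.diag R M ⊗ T ⟶ sp R C} (hφ : AutFam.IsHomFamily (Red.diag R M) (sp R C) φ)
  {A : Type u} [CommRing A] [Algebra R A]

/-- The algebraic family at an affine point. -/
def algOf (a : sp R A ⟶ T) : AlgFam R C (Multiplicative M) A :=
  (exists_algFam M ((Red.diag R M ◁ a) ≫ φ) (HomRepLib.isHomFamily_comp hφ a)).choose

theorem toFam_algOf (a : sp R A ⟶ T) : toFam M (algOf M hφ a) = (Red.diag R M ◁ a) ≫ φ :=
  (exists_algFam M ((Red.diag R M ◁ a) ≫ φ) (HomRepLib.isHomFamily_comp hφ a)).choose_spec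

theorem algOf_spMap {A' : Type u} [CommRing A'] [Algebra R A'] (g : A →ₐ[R] A') (a : sp R A ⟶ T) :
    algOf M hφ (spMap g ≫ a) = (algOf M hφ a).map g := by
  refine toFam_injective M ?_
  rw [toFam_algOf, ← whiskerLeft_toFam, toFam_algOf, MonoidalCategory.whiskerLeft_comp, Category.assoc]

theorem algOf_comp {T' : Over (Spec (CommRingCat.of R))} (b : T' ⟶ T) (a : sp R A ⟶ T') :
    algOf M (HomRepLib.isHomFamily_comp hφ b) a = algOf M hφ (a ≫ b) := by
  refine toFam_injective M ?_
  rw [toFam_algOf, toFam_algOf, MonoidalCategory.whiskerLeft_comp, Category.assoc]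

end AlgOf

/-- Every point is the image of a universal field-valued point. -/
theorem exists_fld_pt (T : Over (Spec (CommRingCat.of R))) (t : T.left) :
    ∃ (K : Type u) (_ : Field K) (_ : Algebra R K) (r : sp R K ⟶ T), r.left (IsLocalRing.closedPoint K) = t ∧
      ∀ (L : Type u) [Field L] [Algebra R L] (y : sp R L ⟶ T), y.left (IsLocalRing.closedPoint L) = t →
        ∃ g : K →ₐ[R] L, y = spMap g ≫ r := by
  let K : Type u := IsLocalRing.ResidueField (T.left.presheaf.stalk t)
  let j : Spec (CommRingCat.of K) ⟶ T.left := T.left.fromSpecResidueField t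
  obtain ⟨_, r, hr⟩ := exists_sp_pt (R := R) (T := T) (A := K) j
  refine ⟨K, inferInstance, inferInstance, r, ?_, ?_⟩
  · rw [hr]; exact Scheme.fromSpecResidueField_apply t _
  intro L _ _ y hy
  obtain ⟨g₀, hg₀⟩ : ∃ g₀ : CommRingCat.of K ⟶ CommRingCat.of L, Spec.map g₀ ≫ j = y.left := by
    subst hy
    exact ⟨_, Scheme.descResidueField_stalkClosedPointTo_fromSpecResidueField L T.left y.left⟩
  let g' : sp R L ⟶ sp R K := Over.homMk (Spec.map g₀) (by
    show Spec.map g₀ ≫ (sp R K).hom = (sp R L).hom
    rw [← Over.w r, hr]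
    exact (Category.assoc _ _ _).symm.trans ((congrArg (· ≫ T.hom) hg₀).trans (Over.w y)))
  obtain ⟨g, hg⟩ := exists_spMap g'
  refine ⟨g, ?_⟩
  rw [← hg]
  refine Over.OverMorphism.ext ?_
  show y.left = Spec.map g₀ ≫ r.left
  rw [hr, hg₀]

/-- A point of `T` with values in a field has good weights. -/
def GoodPt {φ : Red.diag R M ⊗ T ⟶ sp R C} (hφ : AutFam.IsHomFamily (Red.diag R M) (sp R C) φ)
    (F : Set (Multiplicative M)) (t : T.left) : Prop :=
  ∀ (K : Type u) [Field K] [Algebra R K] (x : sp R K ⟶ T),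
    x.left (IsLocalRing.closedPoint K) = t → (algOf M hφ x).Good P F

variable {φ : Red.diag R M ⊗ T ⟶ sp R C} (hφ : AutFam.IsHomFamily (Red.diag R M) (sp R C) φ)

/-- Goodness may be tested on one field-valued point. -/
theorem goodPt_of_pt {F : Set (Multiplicative M)} {K : Type u} [Field K] [Algebra R K] (x : sp R K ⟶ T)
    (h : (algOf M hφ x).Good P F) : GoodPt M P hφ F (x.left (IsLocalRing.closedPoint K)) := by
  obtain ⟨_, _, _, r, -, hfac⟩ := exists_fld_pt T (x.left (IsLocalRing.closedPoint K))
  obtain ⟨g, hg⟩ := hfac K x rfl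
  rw [hg, algOf_spMap] at h
  have h0 := AlgFam.good_of_map_field P g h
  intro L _ _ y hy
  obtain ⟨g', rfl⟩ := hfac L y hy
  rw [algOf_spMap]
  exact AlgFam.good_map P g' h0

theorem goodPt_mono {F F' : Set (Multiplicative M)} {t : T.left} (h : GoodPt M P hφ F t) (hF : F ⊆ F') :
    GoodPt M P hφ F' t := fun K _ _ x hx => AlgFam.good_mono P (h K x hx) hF

theorem goodPt_inter {F F' : Set (Multiplicative M)} {t : T.left} (h : GoodPt M P hφ F t)
    (h' : GoodPt M P hφ F' t) : GoodPt M P hφ (F ∩ F') t :=
  fun K _ _ x hx => AlgFam.good_inter P (h K x hx) (h' K x hx)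

/-- Every point has weights in some finite set. -/
theorem exists_goodPt (t : T.left) : ∃ F : Finset (Multiplicative M), GoodPt M P hφ (F : Set (Multiplicative M)) t := by
  obtain ⟨_, _, _, r, hr, -⟩ := exists_fld_pt T t
  obtain ⟨S, hS⟩ := (algOf M hφ r).exists_finset P
  exact ⟨S, hr ▸ goodPt_of_pt M P hφ r (F := (S : Set (Multiplicative M))) hS⟩

/-- Goodness at points of affine test schemes. -/
theorem goodPt_affine_iff {F : Set (Multiplicative M)} {A : Type u} [CommRing A] [Algebra R A] (a : sp R A ⟶ T)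
    (p : PrimeSpectrum A) :
    GoodPt M P hφ F (a.left p) ↔
      ((algOf M hφ a).map (IsScalarTower.toAlgHom R A p.asIdeal.ResidueField)).Good P F := by
  let k := p.asIdeal.ResidueField
  have hpt : (spMap (IsScalarTower.toAlgHom R A k) ≫ a).left (IsLocalRing.closedPoint k) = a.left p := by
    rw [Over.comp_left, Scheme.Hom.comp_apply]
    congr 1
    refine PrimeSpectrum.ext ?_
    show Ideal.comap (algebraMap A k) (IsLocalRing.maximalIdeal k) = p.asIdeal
    rw [IsLocalRing.maximalIdeal_eq_bot, ← RingHom.ker_eq_comap_bot, Ideal.ker_algebraMap_residueField]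
  rw [← algOf_spMap]
  exact ⟨fun h => h k _ hpt, fun h => hpt ▸ goodPt_of_pt M P hφ _ h⟩

/-- The points with good weights form an open set. -/
theorem isOpen_goodPt (F : Set (Multiplicative M)) : IsOpen {t | GoodPt M P hφ F t} := by
  rw [isOpen_iff_forall_mem_open]
  intro t ht
  obtain ⟨V, hV, htV, -⟩ := exists_isAffineOpen_mem_and_subset (show t ∈ (⊤ : T.left.Opens) from trivial)
  obtain ⟨_, a, ha⟩ := exists_sp_pt (T := T) (A := Γ(T.left, V)) hV.fromSpec
  obtain ⟨p, hp⟩ : t ∈ Set.range hV.fromSpec := by rw [hV.range_fromSpec]; exact htV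
  subst hp
  have ht' := (goodPt_affine_iff M P hφ (F := F) a p).1 (by rw [ha]; exact ht)
  obtain ⟨s, hs, hg⟩ := (algOf M hφ a).exists_away P F p ht'
  have hop : IsOpen (hV.fromSpec '' (PrimeSpectrum.basicOpen s : Set (PrimeSpectrum Γ(T.left, V)))) :=
    hV.fromSpec.isOpenEmbedding.isOpenMap _ (PrimeSpectrum.basicOpen s).2
  refine ⟨_, ?_, hop, ⟨p, hs, rfl⟩⟩
  rintro _ ⟨q, hq, rfl⟩
  suffices hh : GoodPt M P hφ F (a.left q) by rw [ha] at hh; exact hh
  rw [goodPt_affine_iff]
  let g : Localization.Away s →ₐ[R] q.asIdeal.ResidueField :=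
    (IsLocalization.liftAlgHom (M := Submonoid.powers s) (S := Localization.Away s)
      (f := IsScalarTower.toAlgHom R Γ(T.left, V) q.asIdeal.ResidueField) (by
        rintro ⟨_, n, rfl⟩
        show IsUnit (algebraMap Γ(T.left, V) q.asIdeal.ResidueField (s ^ n))
        rw [map_pow]
        refine (IsUnit.mk0 _ fun h => hq ?_).pow n
        rwa [← Ideal.algebraMap_residueField_eq_zero]))
  have hgA : g.comp (IsScalarTower.toAlgHom R Γ(T.left, V) (Localization.Away s)) =
      IsScalarTower.toAlgHom R Γ(T.left, V) q.asIdeal.ResidueField := AlgHom.ext fun x => by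
    exact IsLocalization.lift_eq _ x
  have h := AlgFam.good_map P g hg
  intro m hm
  refine LinearMap.ext fun w => ?_
  have h' := LinearMap.congr_fun (h m hm) w
  rw [AlgFam.comp_map] at h'
  rw [AlgFam.comp_map, ← hgA]
  rw [AlgFam.comp_map, ← LinearMap.comp_apply, ← LinearMap.rTensor_comp] at h'
  exact h'

/-- The open set of points with weights in a set. -/
def locus (F : Set (Multiplicative M)) : T.left.Opens := ⟨_, isOpen_goodPt M P hφ F⟩

theorem mem_locus_iff {F : Set (Multiplicative M)} {t : T.left} : t ∈ locus M P hφ F ↔ GoodPt M P hφ F t := Iff.rfl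

/-- The loci pull back. -/
theorem locus_comp {T' : Over (Spec (CommRingCat.of R))} (b : T' ⟶ T) (F : Set (Multiplicative M)) (t' : T'.left) :
    t' ∈ locus M P (HomRepLib.isHomFamily_comp hφ b) F ↔ b.left t' ∈ locus M P hφ F := by
  obtain ⟨K, _, _, r, hpt, -⟩ := exists_fld_pt T' t'
  have hpt' : (r ≫ b).left (IsLocalRing.closedPoint K) = b.left t' := by
    rw [Over.comp_left, Scheme.Hom.comp_apply, hpt]
  constructor
  · intro h
    have h' := h _ r hpt
    rw [algOf_comp M hφ b] at h'
    exact hpt' ▸ goodPt_of_pt M P hφ (r ≫ b) h'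
  · intro h
    have h' := h _ (r ≫ b) hpt'
    rw [← algOf_comp M hφ b] at h'
    exact hpt ▸ goodPt_of_pt M P (HomRepLib.isHomFamily_comp hφ b) r h'

/-- A family good at all points of an affine scheme has good weights. -/
theorem good_algOf {F : Set (Multiplicative M)} (h : ∀ t, t ∈ locus M P hφ F) {A : Type u} [CommRing A] [Algebra R A]
    (a : sp R A ⟶ T) : (algOf M hφ a).Good P F :=
  AlgFam.good_of_forall_prime P fun p => (goodPt_affine_iff M P hφ a p).1 (h _)

end Groth.Agent.MultTypeHom
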