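import Groth.Agent.MultTypeLib.HopfModel
import Mathlib.RingTheory.Coalgebra.Basic
import Mathlib.RingTheory.Noetherian.Basic
import Mathlib.RingTheory.Flat.Basic

/-!
# Finitely generated comodules generating a Hopf algebra

A smooth Hopf algebra is generated as an algebra by the image of a finitely generated comodule.
-/

set_option autoImplicit false

universe u

open TensorProduct Coalgebra

noncomputable section

namespace Groth.Agent.MultTypeHom

/-- A finitely generated comodule over a Hopf algebra with a map to it whose image generates the algebra. -/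
structure CoordRep (R C : Type u) [CommRing R] [CommRing C] [HopfAlgebra R C] where
  W : Type u
  [addCommGroup : AddCommGroup W]
  [module : Module R W]
  [finite : Module.Finite R W]
  rho : W →ₗ[R] W ⊗[R] C
  j : W →ₗ[R] C
  coassoc : ∀ w, TensorProduct.assoc R W C C (rho.rTensor C (rho w)) = (comul (R := R)).lTensor W (rho w)
  counit_rho : ∀ w, TensorProduct.rid R W ((counit (R := R)).lTensor W (rho w)) = w
  comul_j : ∀ w, comul (R := R) (j w) = j.rTensor C (rho w)
  adjoin_j : Algebra.adjoin R (Set.range j) = ⊤

attribute [instance] CoordRep.addCommGroup CoordRep.module CoordRep.finite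

section Noetherian

variable (G X : Type u) [CommRing G] [IsNoetherianRing G] [CommRing X] [HopfAlgebra G X]

/-- Over a Noetherian ring a flat finitely generated Hopf algebra has a coordinate comodule. -/
theorem nonempty_coordRep_of_flat [Algebra.FiniteType G X] [Module.Flat G X] :
    Nonempty (CoordRep G X) := by
  classical
  obtain ⟨s, hs⟩ := Algebra.FiniteType.out (R := G) (A := X)
  choose S hS using fun x : X => TensorProduct.exists_finset (comul (R := G) x)
  let V : Submodule G X := Submodule.span G ((s.biUnion fun x => (S x).image Prod.fst : Finset X) : Set X)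
  let f : X →ₗ[G] (X ⧸ V) ⊗[G] X := V.mkQ.rTensor X ∘ₗ comul
  let E : Submodule G X := LinearMap.ker f
  have hsE : ∀ x ∈ s, x ∈ E := fun x hx => by
    show f x = 0
    simp only [f, LinearMap.comp_apply, hS x, map_sum, LinearMap.rTensor_tmul]
    refine Finset.sum_eq_zero fun p hp => ?_
    have hp' : V.mkQ p.1 = 0 := (Submodule.Quotient.mk_eq_zero _).2
      (Submodule.subset_span (Finset.mem_biUnion.2 ⟨x, hx, Finset.mem_image_of_mem _ hp⟩))
    rw [hp', TensorProduct.zero_tmul]
  have hEV : E ≤ V := fun x hx => by
    have h1 : TensorProduct.rid G (X ⧸ V) ((counit (R := G)).lTensor (X ⧸ V) (f x)) = V.mkQ x := by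
      have h2 : ∀ z : X ⊗[G] X, TensorProduct.rid G (X ⧸ V) ((counit (R := G)).lTensor (X ⧸ V) (V.mkQ.rTensor X z)) =
          V.mkQ (TensorProduct.rid G X ((counit (R := G)).lTensor X z)) := fun z => by
        induction z using TensorProduct.induction_on with
        | zero => simp
        | add a b ha hb => simp only [map_add, ha, hb]
        | tmul a b => simp [-Submodule.mkQ_apply]
      show TensorProduct.rid G (X ⧸ V) ((counit (R := G)).lTensor (X ⧸ V) (V.mkQ.rTensor X (comul x))) = _
      rw [h2, lTensor_counit_comul, TensorProduct.rid_tmul, one_smul]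
    rw [show f x = 0 from hx, map_zero, map_zero] at h1
    exact (Submodule.Quotient.mk_eq_zero _).1 h1.symm
  haveI : IsNoetherian G V := isNoetherian_of_fg_of_noetherian V ⟨_, rfl⟩
  haveI : Module.Finite G E := Module.Finite.of_injective (Submodule.inclusion hEV) (Submodule.inclusion_injective hEV)
  have hex : Function.Exact E.subtype f := LinearMap.exact_subtype_ker_map f
  have hinj : Function.Injective (E.subtype.rTensor X) :=
    Module.Flat.rTensor_preserves_injective_linearMap _ E.injective_subtype
  have hmem : ∀ w : E, comul (R := G) (w : X) ∈ LinearMap.range (E.subtype.rTensor X) := fun w => by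
    rw [← (Module.Flat.rTensor_exact X hex).linearMap_ker_eq, LinearMap.mem_ker]
    have h1 : f.rTensor X (comul (R := G) (w : X)) =
        (TensorProduct.assoc G (X ⧸ V) X X).symm ((comul (R := G)).lTensor (X ⧸ V) (f w)) := by
      show (V.mkQ.rTensor X ∘ₗ comul).rTensor X _ = _
      rw [LinearMap.rTensor_comp, LinearMap.comp_apply, ← Coalgebra.coassoc_symm_apply]
      show _ = (TensorProduct.assoc G (X ⧸ V) X X).symm ((comul (R := G)).lTensor _ (V.mkQ.rTensor X (comul _)))
      generalize comul (R := G) (w : X) = z
      induction z using TensorProduct.induction_on with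
      | zero => simp
      | add a b ha hb => simp only [map_add, ha, hb]
      | tmul a b =>
        simp only [LinearMap.lTensor_tmul, LinearMap.rTensor_tmul]
        generalize comul (R := G) b = z'
        induction z' using TensorProduct.induction_on with
        | zero => simp
        | add a b ha hb => simp only [TensorProduct.tmul_add, map_add, ha, hb]
        | tmul c d => simp
    rw [h1, show f (w : X) = 0 from w.2, map_zero, map_zero]
  choose ρ₀ hρ₀ using hmem
  let ρ : E →ₗ[G] E ⊗[G] X :=
    { toFun := ρ₀
      map_add' := fun a b => hinj (by rw [map_add, hρ₀, hρ₀, hρ₀, Submodule.coe_add, map_add])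
      map_smul' := fun r a => hinj (by rw [map_smul, hρ₀, hρ₀, RingHom.id_apply, Submodule.coe_smul, map_smul]) }
  refine ⟨{ W := E, rho := ρ, j := E.subtype, coassoc := fun w => ?_, counit_rho := fun w => ?_,
            comul_j := fun w => (hρ₀ w).symm, adjoin_j := ?_ }⟩
  · have hinj2 : Function.Injective (E.subtype.rTensor (X ⊗[G] X)) :=
      Module.Flat.rTensor_preserves_injective_linearMap _ E.injective_subtype
    apply hinj2
    have h1 : ∀ z : (E ⊗[G] X) ⊗[G] X, E.subtype.rTensor (X ⊗[G] X) (TensorProduct.assoc G E X X z) =
        TensorProduct.assoc G X X X ((E.subtype.rTensor X).rTensor X z) := fun z => by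
      induction z using TensorProduct.induction_on with
      | zero => simp
      | add a b ha hb => simp only [map_add, ha, hb]
      | tmul a b =>
        induction a using TensorProduct.induction_on with
        | zero => simp
        | add a a' ha hb => simp only [TensorProduct.add_tmul, map_add, ha, hb]
        | tmul c d => simp
    rw [h1, ← LinearMap.comp_apply, ← LinearMap.rTensor_comp,
      show E.subtype.rTensor X ∘ₗ ρ = comul ∘ₗ E.subtype from LinearMap.ext hρ₀, LinearMap.rTensor_comp,
      LinearMap.comp_apply, show E.subtype.rTensor X (ρ w) = comul (R := G) (w : X) from hρ₀ w, Coalgebra.coassoc_apply,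
      ← show E.subtype.rTensor X (ρ w) = comul (R := G) (w : X) from hρ₀ w]
    generalize ρ w = z
    induction z using TensorProduct.induction_on with
    | zero => simp
    | add a b ha hb => simp only [map_add, ha, hb]
    | tmul a b => simp
  · apply E.injective_subtype
    have h1 : ∀ z : E ⊗[G] X, E.subtype (TensorProduct.rid G E ((counit (R := G)).lTensor E z)) =
        TensorProduct.rid G X ((counit (R := G)).lTensor X (E.subtype.rTensor X z)) := fun z => by
      induction z using TensorProduct.induction_on with
      | zero => simp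
      | add a b ha hb => simp only [map_add, ha, hb]
      | tmul a b => simp
    rw [h1, show E.subtype.rTensor X (ρ w) = _ from hρ₀ w, lTensor_counit_comul, TensorProduct.rid_tmul, one_smul]
    rfl
  · rw [eq_top_iff, ← hs]
    exact Algebra.adjoin_mono fun x hx => ⟨⟨x, hsE x hx⟩, rfl⟩

end Noetherian

section Transfer

variable {G R : Type u} [CommRing G] [CommRing R] [Algebra G R]
  {M N M' N' : Type u} [AddCommGroup M] [Module G M] [AddCommGroup N] [Module G N]
  [AddCommGroup M'] [Module G M'] [Module R M'] [IsScalarTower G R M']
  [AddCommGroup N'] [Module G N'] [Module R N'] [IsScalarTower G R N']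

/-- Tensor products of maps along a change of rings. -/
def tmap (f : M →ₗ[G] M') (g : N →ₗ[G] N') : M ⊗[G] N →ₗ[G] M' ⊗[R] N' :=
  TensorProduct.lift (LinearMap.mk₂ G (fun a b => f a ⊗ₜ[R] g b)
    (fun a a' b => by rw [map_add, TensorProduct.add_tmul])
    (fun r a b => by rw [map_smul, TensorProduct.smul_tmul'])
    (fun a b b' => by rw [map_add, TensorProduct.tmul_add])
    (fun r a b => by rw [map_smul, TensorProduct.tmul_smul]))

@[simp]
theorem tmap_tmul (f : M →ₗ[G] M') (g : N →ₗ[G] N') (a : M) (b : N) :
    tmap (R := R) f g (a ⊗ₜ[G] b) = f a ⊗ₜ[R] g b := rfl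

end Transfer

/-- A smooth Hopf algebra has a coordinate comodule. -/
theorem nonempty_coordRep (R A : Type u) [CommRing R] [CommRing A] [HopfAlgebra R A] [Algebra.Smooth R A] :
    Nonempty (CoordRep R A) := by
  classical
  obtain ⟨G, _, _, _, X, _, _, _, _, ⟨e⟩⟩ := MultTypeLib.exists_flat_hopf_model R A
  obtain ⟨P⟩ := nonempty_coordRep_of_flat G X
  let aX : X →ₗ[G] R ⊗[G] X := TensorProduct.mk G R X 1
  let k : P.W →ₗ[G] R ⊗[G] P.W := TensorProduct.mk G R P.W 1
  let el : R ⊗[G] X →ₗ[R] A := e.toLinearEquiv.toLinearMap
  let ρ' : R ⊗[G] P.W →ₗ[R] (R ⊗[G] P.W) ⊗[R] (R ⊗[G] X) := LinearMap.liftBaseChange R (tmap (R := R) k aX ∘ₗ P.rho)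
  let ρ : R ⊗[G] P.W →ₗ[R] (R ⊗[G] P.W) ⊗[R] A := el.lTensor _ ∘ₗ ρ'
  let j : R ⊗[G] P.W →ₗ[R] A := el ∘ₗ P.j.baseChange R
  have hρ : ∀ w, ρ (k w) = el.lTensor _ (tmap (R := R) k aX (P.rho w)) := fun w => by
    simp [ρ, ρ', k]
  have hj : ∀ w, j (k w) = el (aX (P.j w)) := fun w => by simp [j, k, aX]
  have hcom : ∀ x, comul (R := R) (el (aX x)) = TensorProduct.map el el (tmap (R := R) aX aX (comul (R := G) x)) := fun x => by
    show comul (R := R) (e ((1 : R) ⊗ₜ x)) = _
    rw [← CoalgHomClass.map_comp_comul_apply e, TensorProduct.comul_tmul]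
    generalize comul (R := G) x = z
    induction z using TensorProduct.induction_on with
    | zero => simp
    | add a b ha hb => simp only [TensorProduct.tmul_add, map_add, ha, hb]
    | tmul a b => simp [el, aX]; rfl
  have hext : ∀ (N : Type u) [AddCommGroup N] [Module R N] (f g : R ⊗[G] P.W →ₗ[R] N),
      (∀ w, f (k w) = g (k w)) → f = g := fun N _ _ f g h => LinearMap.ext fun z => by
    induction z using TensorProduct.induction_on with
    | zero => simp
    | add a b ha hb => rw [map_add, map_add, ha, hb]
    | tmul r w => rw [show r ⊗ₜ[G] w = r • k w by simp [k, TensorProduct.smul_tmul'], map_smul, map_smul, h]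
  refine ⟨{ W := R ⊗[G] P.W, rho := ρ, j := j, coassoc := ?_, counit_rho := ?_, comul_j := ?_, adjoin_j := ?_ }⟩
  · suffices h : ((TensorProduct.assoc R _ A A).toLinearMap ∘ₗ ρ.rTensor A) ∘ₗ ρ =
        (comul (R := R)).lTensor (R ⊗[G] P.W) ∘ₗ ρ from fun w => LinearMap.congr_fun h w
    refine hext ((R ⊗[G] P.W) ⊗[R] (A ⊗[R] A)) _ _ fun w => ?_
    simp only [LinearMap.comp_apply, LinearEquiv.coe_coe, hρ]
    have h1 : ∀ z : P.W ⊗[G] X, TensorProduct.assoc R _ A A (ρ.rTensor A (el.lTensor _ (tmap (R := R) k aX z))) =
        (TensorProduct.map el el).lTensor _ (tmap (R := R) k (tmap (R := R) aX aX)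
          (TensorProduct.assoc G P.W X X (P.rho.rTensor X z))) := fun z => by
      induction z using TensorProduct.induction_on with
      | zero => simp
      | add a b ha hb => simp only [map_add, ha, hb]
      | tmul a b =>
        simp only [tmap_tmul, LinearMap.lTensor_tmul, LinearMap.rTensor_tmul, hρ]
        generalize P.rho a = z'
        induction z' using TensorProduct.induction_on with
        | zero => simp
        | add c d hc hd => simp only [map_add, TensorProduct.add_tmul, hc, hd]
        | tmul c d => simp
    rw [h1, P.coassoc]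
    generalize P.rho w = z
    induction z using TensorProduct.induction_on with
    | zero => simp
    | add a b ha hb => simp only [map_add, ha, hb]
    | tmul a b => simp only [LinearMap.lTensor_tmul, tmap_tmul, hcom]
  · suffices h : ((TensorProduct.rid R _).toLinearMap ∘ₗ (counit (R := R)).lTensor (R ⊗[G] P.W)) ∘ₗ ρ =
        LinearMap.id from fun w => LinearMap.congr_fun h w
    refine hext (R ⊗[G] P.W) _ _ fun w => ?_
    simp only [LinearMap.comp_apply, LinearEquiv.coe_coe, hρ, LinearMap.id_apply]
    conv_rhs => rw [← P.counit_rho w]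
    generalize P.rho w = z
    induction z using TensorProduct.induction_on with
    | zero => simp
    | add a b ha hb => simp only [map_add, ha, hb]
    | tmul a b =>
      simp [el, aX, k, TensorProduct.counit_tmul]
      rw [← algebraMap_smul R (counit (R := G) b), map_smul, TensorProduct.rid_tmul, one_smul, algebraMap_smul]
  · suffices h : comul (R := R) ∘ₗ j = j.rTensor A ∘ₗ ρ from fun w => LinearMap.congr_fun h w
    refine hext (A ⊗[R] A) _ _ fun w => ?_
    simp only [LinearMap.comp_apply, hρ, hj, hcom, P.comul_j]
    generalize P.rho w = z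
    induction z using TensorProduct.induction_on with
    | zero => simp
    | add a b ha hb => simp only [map_add, ha, hb]
    | tmul a b => simp [hj]
  · have hall : ∀ z : R ⊗[G] X, el z ∈ Algebra.adjoin R (Set.range j) := fun z => by
      induction z using TensorProduct.induction_on with
      | zero => rw [map_zero]; exact zero_mem _
      | add z z' hz hz' => rw [map_add]; exact add_mem hz hz'
      | tmul r x =>
        rw [show r ⊗ₜ[G] x = r • aX x by simp [aX, TensorProduct.smul_tmul'], map_smul]
        refine Subalgebra.smul_mem _ ?_ r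
        let T : Subalgebra G X := (((Algebra.adjoin R (Set.range j)).comap
          (e : R ⊗[G] X ≃ₐ[R] A).toAlgHom).restrictScalars G).comap Algebra.TensorProduct.includeRight
        have hT : Algebra.adjoin G (Set.range P.j) ≤ T := Algebra.adjoin_le (by
          rintro _ ⟨w, rfl⟩
          exact Algebra.subset_adjoin ⟨k w, hj w⟩)
        exact hT (P.adjoin_j ▸ trivial)
    refine eq_top_iff.2 fun a _ => ?_
    obtain ⟨z, rfl⟩ := e.toLinearEquiv.surjective a
    exact hall z

end Groth.Agent.MultTypeHom
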