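import Groth.Agent.MultTypeHom.Supp
import Groth.Agent.GrpSchLib.AffineHopf
import Groth.Prelude.Def_AutFam

/-!
# Families of homomorphisms over affine schemes

Over an affine scheme a family of homomorphisms from a diagonalisable group to an affine group is the same as a map of
algebras into the group algebra satisfying the homomorphism condition.
-/

set_option autoImplicit false
set_option linter.style.haveILetI false

universe u

open CategoryTheory CategoryTheory.Limits MonoidalCategory CartesianMonoidalCategory MonObj AlgebraicGeometry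
open TensorProduct WithConv

noncomputable section

namespace Groth.Agent.MultTypeHom

open GrpSchLib.AffineHopf

variable {R : Type u} [CommRing R] (M : Type) [AddCommGroup M]

/-- The characters over an algebra. -/
def mapC (A : Type u) [CommRing A] [Algebra R A] :
    MonoidAlgebra R (Multiplicative M) →ₐ[R] MonoidAlgebra A (Multiplicative M) :=
  MonoidAlgebra.mapAlgHom (Multiplicative M) (Algebra.ofId R A)

/-- The constants. -/
def inA (A : Type u) [CommRing A] [Algebra R A] : A →ₐ[R] MonoidAlgebra A (Multiplicative M) :=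
  MonoidAlgebra.singleOneAlgHom

/-- The product of the diagonalisable group with an affine scheme. -/
def eA (A : Type u) [CommRing A] [Algebra R A] :
    sp R (MonoidAlgebra A (Multiplicative M)) ⟶ Red.diag R M ⊗ sp R A :=
  CartesianMonoidalCategory.lift (spMap (mapC M A)) (spMap (inA M A))

theorem isIso_lift_spMap (B A : Type u) [CommRing B] [Algebra R B] [CommRing A] [Algebra R A] :
    IsIso (CartesianMonoidalCategory.lift (spMap (Algebra.TensorProduct.includeLeft : B →ₐ[R] B ⊗[R] A))
      (spMap (Algebra.TensorProduct.includeRight : A →ₐ[R] B ⊗[R] A))) := by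
  set U := CartesianMonoidalCategory.lift (spMap (Algebra.TensorProduct.includeLeft : B →ₐ[R] B ⊗[R] A))
      (spMap (Algebra.TensorProduct.includeRight : A →ₐ[R] B ⊗[R] A)) with hUdef
  have hU : U.left = (pullbackSpecIso R B A).inv := by
    apply pullback.hom_ext
    · refine (congrArg (fun g : sp R (B ⊗[R] A) ⟶ sp R B => g.left) (lift_fst _ _)).trans ?_
      exact (pullbackSpecIso_inv_fst R B A).symm
    · refine (congrArg (fun g : sp R (B ⊗[R] A) ⟶ sp R A => g.left) (lift_snd _ _)).trans ?_
      exact (pullbackSpecIso_inv_snd R B A).symm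
  haveI : IsIso U.left := by rw [hU]; exact inferInstanceAs (IsIso (pullbackSpecIso R B A).inv)
  haveI : IsIso ((Over.forget _).map U) := ‹IsIso U.left›
  exact isIso_of_reflects_iso U (Over.forget _)

instance isIso_eA (A : Type u) [CommRing A] [Algebra R A] : IsIso (eA (R := R) M A) := by
  haveI := isIso_lift_spMap (R := R) (MonoidAlgebra R (Multiplicative M)) A
  let θ : MonoidAlgebra R (Multiplicative M) ⊗[R] A →ₐ[R] MonoidAlgebra A (Multiplicative M) :=
    Algebra.TensorProduct.lift (mapC M A) (inA M A) fun _ _ => Commute.all _ _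
  let θ' : MonoidAlgebra R (Multiplicative M) ⊗[R] A ≃ₐ[R] MonoidAlgebra A (Multiplicative M) :=
    (Algebra.TensorProduct.comm R _ _).trans ((MonoidAlgebra.scalarTensorEquiv R A).restrictScalars R)
  have hθ : θ = θ'.toAlgHom := Algebra.TensorProduct.ext' fun p a => by
    simp [θ, θ', mapC, inA]
    rw [Algebra.smul_def, mul_comm]
    rfl
  haveI : IsIso (spMap θ) := ⟨spMap θ'.symm.toAlgHom, by
    rw [spMap_comp, hθ, show θ'.toAlgHom.comp θ'.symm.toAlgHom = AlgHom.id R _ from
      AlgHom.ext θ'.apply_symm_apply, spMap_id], by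
    rw [spMap_comp, hθ, show θ'.symm.toAlgHom.comp θ'.toAlgHom = AlgHom.id R _ from
      AlgHom.ext θ'.symm_apply_apply, spMap_id]⟩
  have : eA (R := R) M A = spMap θ ≫ CartesianMonoidalCategory.lift
      (spMap (Algebra.TensorProduct.includeLeft : MonoidAlgebra R (Multiplicative M) →ₐ[R] _ ⊗[R] A))
      (spMap (Algebra.TensorProduct.includeRight : A →ₐ[R] MonoidAlgebra R (Multiplicative M) ⊗[R] A)) := by
    rw [eA, comp_lift, spMap_comp, spMap_comp]
    congr 2 <;> exact AlgHom.ext fun x => by simp [θ]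
  rw [this]
  exact IsIso.comp_isIso' inferInstance inferInstance

theorem eA_natural {A A' : Type u} [CommRing A] [Algebra R A] [CommRing A'] [Algebra R A'] (g : A →ₐ[R] A') :
    spMap (MonoidAlgebra.mapAlgHom (Multiplicative M) g) ≫ eA M A = eA M A' ≫ (Red.diag R M ◁ spMap g) := by
  rw [eA, eA, comp_lift, CartesianMonoidalCategory.lift_whiskerLeft, spMap_comp, spMap_comp, spMap_comp]
  congr 2
  · refine AlgHom.ext fun x => ?_
    ext m
    simp [mapC]
  · refine AlgHom.ext fun x => ?_
    simp [inA]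

section Universal

variable (A : Type u) [CommRing A] [Algebra R A]

local notation "N" => Multiplicative M

/-- The two projections of the product of two copies of the diagonalisable group. -/
def pr₁ : sp R (MonoidAlgebra A (N × N)) ⟶ sp R (MonoidAlgebra A N) :=
  spMap (MonoidAlgebra.mapDomainAlgHom R A (MonoidHom.inl N N))

/-- The second projection. -/
def pr₂ : sp R (MonoidAlgebra A (N × N)) ⟶ sp R (MonoidAlgebra A N) :=
  spMap (MonoidAlgebra.mapDomainAlgHom R A (MonoidHom.inr N N))

/-- The multiplication. -/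
def prd : sp R (MonoidAlgebra A (N × N)) ⟶ sp R (MonoidAlgebra A N) :=
  spMap (MonoidAlgebra.mapDomainAlgHom R A ((MonoidHom.id N).prod (MonoidHom.id N)))

theorem pr_snd : pr₁ (R := R) M A ≫ spMap (inA M A) = pr₂ M A ≫ spMap (inA M A) ∧
    prd (R := R) M A ≫ spMap (inA M A) = pr₁ M A ≫ spMap (inA M A) := by
  constructor <;> simp only [pr₁, pr₂, prd, spMap_comp] <;> congr 1 <;>
    exact AlgHom.ext fun a => by simp [inA]

theorem prd_fst : prd (R := R) M A ≫ spMap (mapC M A) =
    (pr₁ M A ≫ spMap (mapC M A)) * (pr₂ M A ≫ spMap (mapC M A)) := by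
  simp only [prd, pr₁, pr₂, spMap_comp, spMap_mul]
  congr 1
  refine MonoidAlgebra.algHom_ext (fun m => ?_) (Subsingleton.elim _ _)
  simp [mapC, AlgHom.convMul_apply]

theorem exists_pt (X : Over (Spec (CommRingCat.of R))) (g₁ g₂ : X ⟶ Red.diag R M) (t : X ⟶ sp R A) :
    ∃ x : X ⟶ sp R (MonoidAlgebra A (N × N)),
      x ≫ pr₁ M A ≫ eA M A = CartesianMonoidalCategory.lift g₁ t ∧
      x ≫ pr₂ M A ≫ eA M A = CartesianMonoidalCategory.lift g₂ t := by
  let c : MonoidAlgebra A (N × N) ≃ₐ[R] MonoidAlgebra (MonoidAlgebra A N) N :=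
    (MonoidAlgebra.curryAlgEquiv A).restrictScalars R
  haveI : IsIso (spMap (c : MonoidAlgebra A (N × N) →ₐ[R] MonoidAlgebra (MonoidAlgebra A N) N)) := ⟨spMap c.symm.toAlgHom, by
    rw [spMap_comp]; exact (congrArg spMap (AlgHom.ext c.apply_symm_apply)).trans spMap_id, by
    rw [spMap_comp]; exact (congrArg spMap (AlgHom.ext c.symm_apply_apply)).trans spMap_id⟩
  let E : sp R (MonoidAlgebra A (N × N)) ⟶ Red.diag R M ⊗ (Red.diag R M ⊗ sp R A) :=
    inv (spMap (c : MonoidAlgebra A (N × N) →ₐ[R] MonoidAlgebra (MonoidAlgebra A N) N)) ≫ eA M (MonoidAlgebra A N) ≫ (Red.diag R M ◁ eA M A)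
  let x := CartesianMonoidalCategory.lift g₁ (CartesianMonoidalCategory.lift g₂ t) ≫ inv E
  have hx : x ≫ E = CartesianMonoidalCategory.lift g₁ (CartesianMonoidalCategory.lift g₂ t) := by simp [x]
  have hc : ∀ (q : sp R (MonoidAlgebra A (N × N)) ⟶ sp R (MonoidAlgebra A N))
      (a : MonoidAlgebra A N →ₐ[R] MonoidAlgebra A (N × N)), q = spMap a →
      spMap (c : MonoidAlgebra A (N × N) →ₐ[R] MonoidAlgebra (MonoidAlgebra A N) N) ≫ q = spMap ((c : MonoidAlgebra A (N × N) →ₐ[R] MonoidAlgebra (MonoidAlgebra A N) N).comp a) :=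
    fun q a h => by rw [h, spMap_comp]
  have e₁ : E ≫ fst _ _ = pr₁ M A ≫ spMap (mapC M A) := by
    simp only [E, Category.assoc, whiskerLeft_fst, eA, lift_fst]
    rw [IsIso.inv_comp_eq, ← Category.assoc, hc (pr₁ M A) _ rfl, spMap_comp]
    congr 1
    exact MonoidAlgebra.algHom_ext (fun m => by simp [mapC, c, MonoidAlgebra.one_def]) (Subsingleton.elim _ _)
  have e₂ : E ≫ snd _ _ = pr₂ M A ≫ eA M A := by
    simp only [E, Category.assoc, whiskerLeft_snd]
    rw [IsIso.inv_comp_eq, ← Category.assoc (spMap _), hc (pr₂ M A) _ rfl]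
    simp only [eA, lift_snd_assoc]
    congr 1
    congr 1
    refine MonoidAlgebra.algHom_ext (fun m => by simp [inA, c, MonoidAlgebra.one_def]) (AlgHom.ext fun a => ?_)
    simp [inA, c, MonoidAlgebra.one_def]
  refine ⟨x, ?_, ?_⟩
  · refine CartesianMonoidalCategory.hom_ext _ _ ?_ ?_
    · simp only [eA, Category.assoc, lift_fst]
      rw [← e₁, ← Category.assoc, hx, lift_fst]
    · simp only [eA, Category.assoc, lift_snd]
      rw [(pr_snd M A).1,
        show pr₂ M A ≫ spMap (inA M A) = E ≫ snd _ _ ≫ snd _ _ by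
          rw [← Category.assoc, e₂]; simp only [eA, Category.assoc, lift_snd],
        ← Category.assoc, hx, ← Category.assoc, lift_snd, lift_snd]
  · rw [← e₂, ← Category.assoc, hx, lift_snd]

end Universal

variable {C : Type u} [CommRing C] [HopfAlgebra R C] {A : Type u} [CommRing A] [Algebra R A]

/-- The family of an algebraic family. -/
def toFam (f : AlgFam R C (Multiplicative M) A) : Red.diag R M ⊗ sp R A ⟶ sp R C :=
  inv (eA M A) ≫ spMap f.hom

theorem eA_toFam (f : AlgFam R C (Multiplicative M) A) : eA M A ≫ toFam M f = spMap f.hom := by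
  simp [toFam]

theorem prod_eq (φ : C →ₐ[R] MonoidAlgebra A (Multiplicative M)) :
    (pr₁ M A ≫ spMap φ) * (pr₂ M A ≫ spMap φ) =
      spMap ((Algebra.TensorProduct.lift
        ((MonoidAlgebra.mapDomainAlgHom R A (MonoidHom.inl (Multiplicative M) (Multiplicative M))).comp φ)
        ((MonoidAlgebra.mapDomainAlgHom R A (MonoidHom.inr (Multiplicative M) (Multiplicative M))).comp φ)
        (fun _ _ => Commute.all _ _)).comp (Bialgebra.comulAlgHom R C)) := by
  rw [pr₁, pr₂, spMap_comp, spMap_comp, spMap_mul]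
  congr 1
  refine AlgHom.ext fun c => ?_
  rw [AlgHom.convMul_apply]
  rw [AlgHom.comp_apply, Bialgebra.comulAlgHom_apply]

theorem isHomFamily_toFam (f : AlgFam R C (Multiplicative M) A) :
    AutFam.IsHomFamily (Red.diag R M) (sp R C) (toFam M f) := by
  intro X g₁ g₂ t
  obtain ⟨x, h1, h2⟩ := exists_pt M A X g₁ g₂ t
  have hd : x ≫ prd M A ≫ eA M A = CartesianMonoidalCategory.lift (g₁ * g₂) t := by
    refine CartesianMonoidalCategory.hom_ext _ _ ?_ ?_
    · simp only [Category.assoc, eA, lift_fst]
      rw [prd_fst, MonObj.comp_mul]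
      congr 1
      · simpa [eA] using congrArg (· ≫ fst _ _) h1
      · simpa [eA] using congrArg (· ≫ fst _ _) h2
    · simp only [Category.assoc, eA, lift_snd]
      rw [(pr_snd M A).2]
      simpa [eA] using congrArg (· ≫ snd _ _) h1
  rw [← hd, ← h1, ← h2]
  simp only [Category.assoc, eA_toFam]
  rw [← MonObj.comp_mul, prod_eq, prd, spMap_comp]
  congr 2
  exact AlgHom.ext fun c => f.mul c

/-- Every family of homomorphisms over an affine scheme comes from an algebraic one. -/
theorem exists_algFam (φ : Red.diag R M ⊗ sp R A ⟶ sp R C)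
    (hφ : AutFam.IsHomFamily (Red.diag R M) (sp R C) φ) :
    ∃ f : AlgFam R C (Multiplicative M) A, toFam M f = φ := by
  obtain ⟨α, hα⟩ := exists_eq_spMap (eA M A ≫ φ)
  have hm : (MonoidAlgebra.mapDomainAlgHom R A ((MonoidHom.id _).prod (MonoidHom.id (Multiplicative M)))).comp α =
      (Algebra.TensorProduct.lift
        ((MonoidAlgebra.mapDomainAlgHom R A (MonoidHom.inl (Multiplicative M) (Multiplicative M))).comp α)
        ((MonoidAlgebra.mapDomainAlgHom R A (MonoidHom.inr (Multiplicative M) (Multiplicative M))).comp α)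
        (fun _ _ => Commute.all _ _)).comp (Bialgebra.comulAlgHom R C) := by
    apply spMap_injective
    rw [← prod_eq, ← hα, ← spMap_comp, ← hα]
    have h := hφ _ (pr₁ M A ≫ spMap (mapC M A)) (pr₂ M A ≫ spMap (mapC M A)) (pr₁ M A ≫ spMap (inA M A))
    have hl : ∀ q : sp R (MonoidAlgebra A (Multiplicative M × Multiplicative M)) ⟶ sp R (MonoidAlgebra A (Multiplicative M)),
        q ≫ spMap (inA M A) = pr₁ M A ≫ spMap (inA M A) →
        CartesianMonoidalCategory.lift (q ≫ spMap (mapC M A)) (pr₁ M A ≫ spMap (inA M A)) ≫ φ = q ≫ eA M A ≫ φ := by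
      intro q hq
      rw [eA, comp_lift_assoc, hq]
    rw [← prd_fst, hl _ (pr_snd M A).2, hl _ rfl, hl _ (pr_snd M A).1.symm] at h
    exact h
  refine ⟨⟨α, fun c => AlgHom.congr_fun hm c⟩, ?_⟩
  rw [toFam, ← hα, IsIso.inv_hom_id_assoc]

theorem toFam_injective : Function.Injective (toFam M : AlgFam R C (Multiplicative M) A → _) := fun f g h =>
  AlgFam.ext' (spMap_injective (by rw [← eA_toFam, h, eA_toFam]))

theorem whiskerLeft_toFam {A' : Type u} [CommRing A'] [Algebra R A'] (g : A →ₐ[R] A')
    (f : AlgFam R C (Multiplicative M) A) :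
    (Red.diag R M ◁ spMap g) ≫ toFam M f = toFam M (f.map g) := by
  rw [← cancel_epi (eA M A'), eA_toFam, ← Category.assoc, ← eA_natural, Category.assoc, eA_toFam, spMap_comp]
  rfl

end Groth.Agent.MultTypeHom
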