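import Groth.Agent.MultTypeHom.Split

/-!
# Properties of the scheme of homomorphisms from a diagonalisable group

It is smooth, separated and ind-quasi-affine over the base.
-/

set_option autoImplicit false
set_option linter.style.haveILetI false

universe u

open CategoryTheory CategoryTheory.Limits MonoidalCategory CartesianMonoidalCategory MonObj AlgebraicGeometry
open TensorProduct

noncomputable section

namespace Groth.Agent.MultTypeHom

open GrpSchLib.AffineHopf

/-- A morphism is separated if any two points lie in an open separated over the base. -/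
theorem isSeparated_of_pairs {X S : Scheme.{u}} (f : X ⟶ S)
    (H : ∀ x y : X, ∃ U : X.Opens, x ∈ U ∧ y ∈ U ∧ IsSeparated (U.ι ≫ f)) : IsSeparated f := by
  refine ⟨IsClosedImmersion.of_isPreimmersion (pullback.diagonal f) ?_⟩
  rw [← isOpen_compl_iff, isOpen_iff_forall_mem_open]
  intro z hz
  obtain ⟨U, hx, hy, hU⟩ := H (pullback.fst f f z) (pullback.snd f f z)
  let j := pullback.map (U.ι ≫ f) (U.ι ≫ f) f f U.ι U.ι (𝟙 S) (Category.comp_id _) (Category.comp_id _)
  haveI : IsOpenImmersion j := inferInstance
  haveI := hU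
  have hj1 : j ≫ pullback.fst f f = pullback.fst (U.ι ≫ f) (U.ι ≫ f) ≫ U.ι := pullback.lift_fst _ _ _
  have hj2 : j ≫ pullback.snd f f = pullback.snd (U.ι ≫ f) (U.ι ≫ f) ≫ U.ι := pullback.lift_snd _ _ _
  have hjd : pullback.diagonal (U.ι ≫ f) ≫ j = U.ι ≫ pullback.diagonal f := by
    apply pullback.hom_ext
    · simp [hj1]
    · simp [hj2]
  have hdj : ∀ w, j w ∈ Set.range (pullback.diagonal f) → w ∈ Set.range (pullback.diagonal (U.ι ≫ f)) := by
    rintro w ⟨a, ha⟩
    have h1 : a = U.ι (pullback.fst (U.ι ≫ f) (U.ι ≫ f) w) := by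
      have := congrArg (fun p => pullback.fst f f p) ha
      rw [← Scheme.Hom.comp_apply, pullback.diagonal_fst, ← Scheme.Hom.comp_apply] at this
      refine this.trans ?_
      rw [hj1, Scheme.Hom.comp_apply]
    refine ⟨pullback.fst (U.ι ≫ f) (U.ι ≫ f) w, j.isOpenEmbedding.injective ?_⟩
    rw [← Scheme.Hom.comp_apply, hjd, Scheme.Hom.comp_apply, ← h1, ha]
  refine ⟨j '' (Set.range (pullback.diagonal (U.ι ≫ f)))ᶜ, ?_, ?_, ?_⟩
  · rintro _ ⟨w, hw, rfl⟩ h
    exact hw (hdj w h)
  · exact j.isOpenEmbedding.isOpenMap _ (pullback.diagonal (U.ι ≫ f)).isClosedEmbedding.isClosed_range.isOpen_compl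
  · obtain ⟨w, rfl⟩ : z ∈ Set.range j := by
      rw [Scheme.Pullback.range_map, Scheme.Opens.range_ι]
      exact ⟨hx, hy⟩
    refine ⟨w, ?_, rfl⟩
    rintro ⟨a, rfl⟩
    exact hz ⟨U.ι a, by rw [← Scheme.Hom.comp_apply, ← hjd, Scheme.Hom.comp_apply]⟩

variable {R : Type u} [CommRing R] (M : Type) [AddCommGroup M] {C : Type u} [CommRing C] [HopfAlgebra R C]
  (P : CoordRep R C) [Algebra.FinitePresentation R C]

theorem lfp_space : LocallyOfFinitePresentation (space M P).hom := by
  have h : ∀ F : Finset (Multiplicative M),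
      LocallyOfFinitePresentation (colimit.ι (diagram M P) F ≫ (space M P).hom) := fun F => by
    rw [show colimit.ι (diagram M P) F ≫ (space M P).hom = (chart M P F).U.hom from colimit.ι_desc _ F]
    exact (chart M P F).lfp
  exact (IsZariskiLocalAtSource.iff_of_openCover (P := @LocallyOfFinitePresentation)
    (Scheme.IsLocallyDirected.openCover (diagram M P))).2 fun F => h F

/-- Two points lie in a chart. -/
theorem exists_mem₂ (x y : (space M P).left) :
    ∃ F, x ∈ (incl M P F).left.opensRange ∧ y ∈ (incl M P F).left.opensRange := by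
  classical
  obtain ⟨F, hF⟩ := exists_mem M P x
  obtain ⟨F', hF'⟩ := exists_mem M P y
  exact ⟨F ∪ F', range_incl_mono M P Finset.subset_union_left hF, range_incl_mono M P Finset.subset_union_right hF'⟩

theorem isSeparated_space : IsSeparated (space M P).hom := by
  refine isSeparated_of_pairs _ fun x y => ?_
  obtain ⟨F, hx, hy⟩ := exists_mem₂ M P x y
  refine ⟨_, hx, hy, ?_⟩
  obtain ⟨B, _, i, hi⟩ := (chart M P F).emb
  haveI := hi
  haveI : IsSeparated (chart M P F).U.hom := by
    haveI : ((chart M P F).U.left).IsSeparated :=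
      ⟨by rw [← terminal.comp_from i]; infer_instance⟩
    infer_instance
  have h : (incl M P F).left.opensRange.ι ≫ (space M P).hom =
      (incl M P F).left.isoOpensRange.inv ≫ (chart M P F).U.hom := by
    rw [← Over.w (incl M P F), ← Category.assoc]
    congr 1
    rw [Iso.eq_inv_comp]
    exact Scheme.Hom.isoOpensRange_hom_ι _
  rw [h]
  infer_instance

theorem indQA_space : MoreMor.IsIndQuasiAffineHom (space M P).hom := by
  classical
  refine MorLib.IQA.indQA_of_cover _ fun _ => ⟨⊤, trivial, fun U hU _ => ?_⟩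
  obtain ⟨t, ht⟩ := hU.elim_finite_subcover (fun F => ((incl M P F).left.opensRange : Set (space M P).left))
    (fun F => (incl M P F).left.opensRange.2) (fun x _ => Set.mem_iUnion.2 (exists_mem M P x))
  let F := t.sup id
  have hUF : U ≤ (incl M P F).left.opensRange := fun x hx => by
    obtain ⟨G, hG, hxG⟩ := Set.mem_iUnion₂.1 (ht hx)
    exact range_incl_mono M P (Finset.le_sup (f := id) hG) hxG
  obtain ⟨B, _, i, hi⟩ := (chart M P F).emb
  haveI := hi
  haveI : CompactSpace (U : Scheme.{u}) := isCompact_iff_compactSpace.mp hU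
  exact .of_isImmersion ((space M P).left.homOfLE hUF ≫ (incl M P F).left.isoOpensRange.inv ≫ i)

theorem formallySmooth_space [Smooth (sp R C).hom] : MoreMor.IsFormallySmoothHom (space M P).hom := by
  intro B _ I hI a b hab
  obtain ⟨φ, rfl⟩ : ∃ φ : CommRingCat.of R ⟶ CommRingCat.of B, Spec.map φ = b := ⟨_, Spec.map_preimage b⟩
  letI : Algebra R B := φ.hom.toAlgebra
  let a' : sp R (B ⧸ I) ⟶ space M P := Over.homMk a (by
    refine hab.symm.trans ?_
    show _ = Spec.map (CommRingCat.ofHom (algebraMap R (B ⧸ I)))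
    rw [← Spec.map_comp]
    rfl)
  let f := algOf M (isHomFamily_fam M P) a'
  obtain ⟨f', hf'⟩ := exists_algFam_lift M I ((pow_two I).symm.trans hI) f
  obtain ⟨l, hl, -⟩ := (representsHom_space M P).2 _ _ (isHomFamily_toFam M f')
  beta_reduce at hl
  refine ⟨l.left, congrArg Over.Hom.left (?_ : spMap (Ideal.Quotient.mkₐ R I) ≫ l = a'), Over.w l⟩
  refine ((representsHom_space M P).2 _ _ (HomRepLib.isHomFamily_comp (isHomFamily_fam M P) a')).unique ?_ rfl
  rw [MonoidalCategory.whiskerLeft_comp, Category.assoc, hl, whiskerLeft_toFam, hf', toFam_algOf]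

theorem smooth_space [Smooth (sp R C).hom] : Smooth (space M P).hom :=
  (Groth.Agent.S1488.result _).2 ⟨lfp_space M P, formallySmooth_space M P⟩

/-- The functor of homomorphisms from a diagonalisable group to a smooth affine group over an affine base is
representable by a scheme which is smooth, separated and ind-quasi-affine over the base. -/
theorem exists_representsHom_diag (R : Type u) [CommRing R] (M : Type) [AddCommGroup M] (C : Type u) [CommRing C]
    [HopfAlgebra R C] [Algebra.Smooth R C] :
    ∃ (A : Over (Spec (CommRingCat.of R))) (υ : Red.diag R M ⊗ A ⟶ sp R C),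
      AutFam.RepresentsHom (Red.diag R M) (sp R C) A υ ∧ Smooth A.hom ∧ IsSeparated A.hom ∧
        MoreMor.IsIndQuasiAffineHom A.hom := by
  obtain ⟨P⟩ := nonempty_coordRep R C
  haveI : Smooth (sp R C).hom :=
    (HasRingHomProperty.Spec_iff (P := @Smooth)).2 (RingHom.smooth_algebraMap.2 inferInstance)
  exact ⟨space M P, fam M P, representsHom_space M P, smooth_space M P, isSeparated_space M P, indQA_space M P⟩

end Groth.Agent.MultTypeHom
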