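import Groth.Agent.MultTypeHom.Chart
import Groth.Agent.MultTypeHom.Lift
import Groth.Agent.MorLib.IndQA
import Groth.Agent.S1488
import Mathlib.AlgebraicGeometry.PullbackCarrier

/-!
# The scheme of homomorphisms from a diagonalisable group to a smooth affine group

Over an affine base it is the union of the charts attached to the finite sets of weights.
-/

set_option autoImplicit false
set_option linter.style.haveILetI false

universe u

open CategoryTheory CategoryTheory.Limits MonoidalCategory CartesianMonoidalCategory MonObj AlgebraicGeometry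
open TensorProduct

noncomputable section

namespace Groth.Agent.MultTypeHom

open GrpSchLib.AffineHopf

variable {R : Type u} [CommRing R] (M : Type) [AddCommGroup M] {C : Type u} [CommRing C] [HopfAlgebra R C]
  (P : CoordRep R C)

/-- The data of a chart. -/
structure ChartData (F : Finset (Multiplicative M)) : Type (u + 1) where
  U : Over (Spec (CommRingCat.of R))
  w : Red.diag R M ⊗ U ⟶ sp R C
  hw : AutFam.IsHomFamily (Red.diag R M) (sp R C) w
  lfp : LocallyOfFinitePresentation U.hom
  emb : ∃ (B : Type u) (_ : CommRing B) (i : U.left ⟶ Spec (CommRingCat.of B)), IsOpenImmersion i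
  mem : ∀ u, u ∈ locus M P hw (F : Set (Multiplicative M))
  univ : ∀ (T : Over (Spec (CommRingCat.of R))) (φ : Red.diag R M ⊗ T ⟶ sp R C)
    (hφ : AutFam.IsHomFamily (Red.diag R M) (sp R C) φ),
    (∀ t, t ∈ locus M P hφ (F : Set (Multiplicative M))) → ∃! a : T ⟶ U, (Red.diag R M ◁ a) ≫ w = φ

theorem nonempty_chartData [Algebra.FinitePresentation R C] (F : Finset (Multiplicative M)) :
    Nonempty (ChartData M P F) := by
  obtain ⟨U, w, hw, h1, h2, h3, h4⟩ := exists_chart M P F
  exact ⟨⟨U, w, hw, h1, h2, h3, h4⟩⟩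

variable [Algebra.FinitePresentation R C]

/-- A chosen chart. -/
def chart (F : Finset (Multiplicative M)) : ChartData M P F := (nonempty_chartData M P F).some

theorem mem_locus_of_le {F F' : Finset (Multiplicative M)} (h : F ≤ F') (u : (chart M P F).U.left) :
    u ∈ locus M P (chart M P F).hw (F' : Set (Multiplicative M)) :=
  goodPt_mono M P (chart M P F).hw ((chart M P F).mem u) (Finset.coe_subset.2 h)

theorem chart_ext {F : Finset (Multiplicative M)} {T : Over (Spec (CommRingCat.of R))} {a b : T ⟶ (chart M P F).U}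
    (h : (Red.diag R M ◁ a) ≫ (chart M P F).w = (Red.diag R M ◁ b) ≫ (chart M P F).w) : a = b :=
  ((chart M P F).univ T _ (HomRepLib.isHomFamily_comp (chart M P F).hw a)
    (fun t => (locus_comp M P (chart M P F).hw a _ t).2 ((chart M P F).mem _))).unique rfl h.symm

/-- The transition maps. -/
def trans {F F' : Finset (Multiplicative M)} (h : F ≤ F') : (chart M P F).U ⟶ (chart M P F').U :=
  ((chart M P F').univ _ _ (chart M P F).hw (mem_locus_of_le M P h)).exists.choose

theorem trans_w {F F' : Finset (Multiplicative M)} (h : F ≤ F') :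
    (Red.diag R M ◁ trans M P h) ≫ (chart M P F').w = (chart M P F).w :=
  ((chart M P F').univ _ _ (chart M P F).hw (mem_locus_of_le M P h)).exists.choose_spec

theorem trans_refl (F : Finset (Multiplicative M)) : trans M P (le_refl F) = 𝟙 _ :=
  chart_ext M P (by rw [trans_w, MonoidalCategory.whiskerLeft_id, Category.id_comp])

theorem trans_trans {F F' F'' : Finset (Multiplicative M)} (h : F ≤ F') (h' : F' ≤ F'') :
    trans M P h ≫ trans M P h' = trans M P (h.trans h') :=
  chart_ext M P (by rw [trans_w, MonoidalCategory.whiskerLeft_comp, Category.assoc, trans_w, trans_w])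

theorem locus_congr {T : Over (Spec (CommRingCat.of R))} {φ φ' : Red.diag R M ⊗ T ⟶ sp R C}
    (hφ : AutFam.IsHomFamily (Red.diag R M) (sp R C) φ) (hφ' : AutFam.IsHomFamily (Red.diag R M) (sp R C) φ')
    (e : φ = φ') (F : Set (Multiplicative M)) (t : T.left) :
    t ∈ locus M P hφ F ↔ t ∈ locus M P hφ' F := by
  subst e; rfl

/-- A chart is an open piece of a larger one. -/
theorem trans_spec {F F' : Finset (Multiplicative M)} (h : F ≤ F') :
    IsOpenImmersion (trans M P h).left ∧
      Set.range (trans M P h).left = (locus M P (chart M P F').hw (F : Set (Multiplicative M)) : Set _) := by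
  let c := chart M P F'
  let O : c.U.left.Opens := locus M P c.hw (F : Set (Multiplicative M))
  let i := HomRepLib.inc c.U O
  have hi : ∀ v, i.left v ∈ O := fun v => v.2
  obtain ⟨a, ha, -⟩ := (chart M P F).univ _ _ (HomRepLib.isHomFamily_comp c.hw i)
    (fun v => (locus_comp M P c.hw i _ v).2 (hi v))
  beta_reduce at ha
  have hat : a ≫ trans M P h = i := chart_ext M P (by
    rw [MonoidalCategory.whiskerLeft_comp, Category.assoc, trans_w, ha])
  have hrange : Set.range (trans M P h).left ⊆ (O : Set c.U.left) := by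
    rintro _ ⟨u, rfl⟩
    refine (locus_comp M P c.hw (trans M P h) _ u).1 ?_
    exact (locus_congr M P _ (chart M P F).hw (trans_w M P h) _ u).2 ((chart M P F).mem u)
  obtain ⟨d, hd⟩ := HomRepLib.exists_fac_inc O (trans M P h) hrange
  haveI : Mono i := Over.mono_of_mono_left _
  have hda : d ≫ a = 𝟙 _ := chart_ext M P (by
    rw [MonoidalCategory.whiskerLeft_comp, Category.assoc, ha, ← MonoidalCategory.whiskerLeft_comp_assoc]
    show (Red.diag R M ◁ (d ≫ HomRepLib.inc c.U O)) ≫ _ = _
    rw [hd, trans_w, MonoidalCategory.whiskerLeft_id, Category.id_comp])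
  have had : a ≫ d = 𝟙 _ := by
    rw [← cancel_mono i, Category.assoc, Category.id_comp]
    exact (congrArg (a ≫ ·) hd).trans hat
  haveI : IsIso d.left := ⟨a.left, congrArg Over.Hom.left hda, congrArg Over.Hom.left had⟩
  have hl : (trans M P h).left = d.left ≫ O.ι := (congrArg Over.Hom.left hd).symm
  refine ⟨?_, hrange.antisymm fun v hv => ?_⟩
  · rw [hl]
    exact (inferInstance : IsOpenImmersion (d.left ≫ O.ι))
  · exact ⟨a.left ⟨v, hv⟩, by rw [← Scheme.Hom.comp_apply, ← Over.comp_left, hat]; rfl⟩

/-- The diagram of charts. -/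
def diagram : Finset (Multiplicative M) ⥤ Scheme.{u} where
  obj F := (chart M P F).U.left
  map f := (trans M P (leOfHom f)).left
  map_id F := congrArg Over.Hom.left (trans_refl M P F)
  map_comp f g := (congrArg Over.Hom.left (trans_trans M P (leOfHom f) (leOfHom g))).symm

instance {F F' : Finset (Multiplicative M)} (f : F ⟶ F') : IsOpenImmersion ((diagram M P).map f) :=
  (trans_spec M P (leOfHom f)).1

instance : ((diagram M P) ⋙ Scheme.forget).IsLocallyDirected := by
  classical
  constructor
  intro F₁ F₂ F₃ f₁ f₂ x₁ x₂ hx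
  change (trans M P (leOfHom f₁)).left x₁ = (trans M P (leOfHom f₂)).left x₂ at hx
  have h1 := (trans_spec M P (leOfHom f₁)).2.le ⟨x₁, rfl⟩
  have h2 := (trans_spec M P (leOfHom f₂)).2.le ⟨x₂, rfl⟩
  rw [← hx] at h2
  have h3 : (trans M P (leOfHom f₁)).left x₁ ∈ locus M P (chart M P F₃).hw ((F₁ ∩ F₂ : Finset _) : Set _) := by
    rw [Finset.coe_inter]
    exact goodPt_inter M P (chart M P F₃).hw h1 h2
  obtain ⟨y, hy⟩ := (trans_spec M P ((Finset.inter_subset_left (s₂ := F₂)).trans (leOfHom f₁))).2.ge h3
  refine ⟨F₁ ∩ F₂, homOfLE Finset.inter_subset_left, homOfLE Finset.inter_subset_right, y, ?_, ?_⟩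
  · show (trans M P _).left y = x₁
    haveI := (trans_spec M P (leOfHom f₁)).1
    apply (trans M P (leOfHom f₁)).left.isOpenEmbedding.injective
    refine Eq.trans ?_ hy
    show ((trans M P _).left ≫ (trans M P _).left) y = _
    rw [← Over.comp_left, trans_trans]
  · show (trans M P _).left y = x₂
    haveI := (trans_spec M P (leOfHom f₂)).1
    apply (trans M P (leOfHom f₂)).left.isOpenEmbedding.injective
    refine Eq.trans ?_ (hy.trans hx)
    show ((trans M P _).left ≫ (trans M P _).left) y = _
    rw [← Over.comp_left, trans_trans]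

/-- The union of the charts. -/
def space : Over (Spec (CommRingCat.of R)) :=
  Over.mk (colimit.desc (diagram M P)
    ⟨Spec (CommRingCat.of R), ⟨fun F => (chart M P F).U.hom, fun _ _ f => by
      exact (Over.w (trans M P (leOfHom f))).trans (Category.comp_id _).symm⟩⟩)

/-- The inclusion of a chart. -/
def incl (F : Finset (Multiplicative M)) : (chart M P F).U ⟶ space M P :=
  Over.homMk (colimit.ι (diagram M P) F) (colimit.ι_desc _ F)

instance isOpenImmersion_incl (F : Finset (Multiplicative M)) : IsOpenImmersion (incl M P F).left :=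
  inferInstanceAs (IsOpenImmersion (colimit.ι (diagram M P) F))

instance mono_incl (F : Finset (Multiplicative M)) : Mono (incl M P F) := Over.mono_of_mono_left _

theorem trans_incl {F F' : Finset (Multiplicative M)} (h : F ≤ F') : trans M P h ≫ incl M P F' = incl M P F :=
  Over.OverMorphism.ext (colimit.w (diagram M P) (homOfLE h))

theorem exists_mem (x : (space M P).left) : ∃ F, x ∈ (incl M P F).left.opensRange := by
  obtain ⟨F, y, hy⟩ := Scheme.IsLocallyDirected.ι_jointly_surjective (diagram M P) x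
  exact ⟨F, y, hy⟩

theorem range_incl_mono {F F' : Finset (Multiplicative M)} (h : F ≤ F') :
    (incl M P F).left.opensRange ≤ (incl M P F').left.opensRange := by
  rintro _ ⟨y, rfl⟩
  exact ⟨(trans M P h).left y, by rw [← Scheme.Hom.comp_apply, ← Over.comp_left, trans_incl]⟩

theorem exists_family : ∃ υ : Red.diag R M ⊗ space M P ⟶ sp R C,
    AutFam.IsHomFamily (Red.diag R M) (sp R C) υ ∧
      ∀ F, (Red.diag R M ◁ incl M P F) ≫ υ = (chart M P F).w := by
  classical
  let H := Red.diag R M
  let X := H ⊗ space M P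
  let O : ULift.{u} (Finset (Multiplicative M)) → X.left.Opens :=
    fun F => (snd H (space M P)).left ⁻¹ᵁ (incl M P F.down).left.opensRange
  have hO : ∀ x, ∃ F, x ∈ O F := fun x => ⟨⟨(exists_mem M P _).choose⟩, (exists_mem M P _).choose_spec⟩
  have hl : ∀ F, ∃ l : HomRepLib.piece X (O F) ⟶ (chart M P F.down).U,
      l ≫ incl M P F.down = HomRepLib.inc X (O F) ≫ snd H _ := fun F =>
    exists_fac_oi (incl M P F.down) _ (by rintro _ ⟨z, rfl⟩; exact z.2)
  choose l hl using hl
  have hcov : ∀ x, ∃ F, x ∈ Set.range (HomRepLib.inc X (O F)).left := fun x =>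
    ⟨(hO x).choose, ⟨x, (hO x).choose_spec⟩, rfl⟩
  obtain ⟨υ, hυ⟩ := exists_glue_cover (fun F => HomRepLib.inc X (O F))
    (fun F => inferInstanceAs (IsOpenImmersion (O F).ι)) hcov
    (fun F => CartesianMonoidalCategory.lift (HomRepLib.inc X (O F) ≫ fst H _) (l F) ≫ (chart M P F.down).w) (by
    intro F F' Z p q hpq
    have e : p ≫ l F ≫ trans M P (Finset.subset_union_left (s₂ := F'.down)) =
        q ≫ l F' ≫ trans M P (Finset.subset_union_right (s₁ := F.down)) := by
      rw [← cancel_mono (incl M P (F.down ∪ F'.down))]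
      simp only [Category.assoc, trans_incl, hl]
      simp only [← Category.assoc, hpq]
    rw [← trans_w M P (Finset.subset_union_left (s₂ := F'.down)),
      ← trans_w M P (Finset.subset_union_right (s₁ := F.down) (s₂ := F'.down))]
    simp only [comp_lift_assoc, CartesianMonoidalCategory.lift_whiskerLeft_assoc, Category.assoc, e]
    simp only [← Category.assoc, hpq]
    rw [CartesianMonoidalCategory.lift_whiskerLeft, CartesianMonoidalCategory.lift_whiskerLeft, Category.assoc,
      Category.assoc, e, Category.assoc])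
  have hres : ∀ F, (H ◁ incl M P F) ≫ υ = (chart M P F).w := fun F => by
    obtain ⟨r, hr⟩ := HomRepLib.exists_fac_inc (O ⟨F⟩) (H ◁ incl M P F) (by
      rintro _ ⟨z, rfl⟩
      show (snd H (space M P)).left ((H ◁ incl M P F).left z) ∈ (incl M P F).left.opensRange
      rw [← Scheme.Hom.comp_apply, ← Over.comp_left, whiskerLeft_snd]
      exact ⟨_, rfl⟩)
    have hrl : r ≫ l ⟨F⟩ = snd H _ := by
      rw [← cancel_mono (incl M P F), Category.assoc, hl ⟨F⟩, ← Category.assoc, hr, whiskerLeft_snd]
    conv_lhs => rw [← hr, Category.assoc, hυ ⟨F⟩, comp_lift_assoc, hrl, ← Category.assoc, hr, whiskerLeft_fst]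
    rw [lift_fst_snd, Category.id_comp]
  refine ⟨υ, fun Z g₁ g₂ t => ?_, hres⟩
  refine HomRepLib.hom_ext_pieces (fun F => t.left ⁻¹ᵁ (incl M P F).left.opensRange) (fun z => exists_mem M P _)
    fun F => ?_
  obtain ⟨b, hb⟩ := exists_fac_oi (incl M P F) (HomRepLib.inc Z (t.left ⁻¹ᵁ (incl M P F).left.opensRange) ≫ t)
    (by rintro _ ⟨z, rfl⟩; exact z.2)
  show HomRepLib.inc Z _ ≫ _ = HomRepLib.inc Z _ ≫ _
  rw [MonObj.comp_mul]
  simp only [← Category.assoc, comp_lift]
  rw [← hb]
  have hpt : ∀ x, CartesianMonoidalCategory.lift x (b ≫ incl M P F) ≫ υ =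
      CartesianMonoidalCategory.lift x b ≫ (chart M P F).w := fun x => by
    rw [← hres F, CartesianMonoidalCategory.lift_whiskerLeft_assoc]
  rw [hpt, hpt, hpt, MonObj.comp_mul]
  exact (chart M P F).hw _ _ _ _

/-- The universal family. -/
def fam : Red.diag R M ⊗ space M P ⟶ sp R C := (exists_family M P).choose

theorem isHomFamily_fam : AutFam.IsHomFamily (Red.diag R M) (sp R C) (fam M P) := (exists_family M P).choose_spec.1

theorem incl_fam (F : Finset (Multiplicative M)) : (Red.diag R M ◁ incl M P F) ≫ fam M P = (chart M P F).w :=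
  (exists_family M P).choose_spec.2 F

theorem representsHom_space : AutFam.RepresentsHom (Red.diag R M) (sp R C) (space M P) (fam M P) := by
  classical
  refine ⟨isHomFamily_fam M P, fun T φ hφ => ?_⟩
  -- two classifying maps agree
  have huniq : ∀ (Z : Over (Spec (CommRingCat.of R))) (a b : Z ⟶ space M P),
      (Red.diag R M ◁ a) ≫ fam M P = (Red.diag R M ◁ b) ≫ fam M P → a = b := by
    intro Z a b hab
    refine HomRepLib.hom_ext_pieces
      (fun p : Finset (Multiplicative M) × Finset (Multiplicative M) =>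
        a.left ⁻¹ᵁ (incl M P p.1).left.opensRange ⊓ b.left ⁻¹ᵁ (incl M P p.2).left.opensRange)
      (fun z => ⟨(_, _), (exists_mem M P _).choose_spec, (exists_mem M P _).choose_spec⟩) fun p => ?_
    let O := a.left ⁻¹ᵁ (incl M P p.1).left.opensRange ⊓ b.left ⁻¹ᵁ (incl M P p.2).left.opensRange
    obtain ⟨a₁, ha₁⟩ := exists_fac_oi (incl M P (p.1 ∪ p.2)) (HomRepLib.inc Z O ≫ a) (by
      rintro _ ⟨z, rfl⟩; exact range_incl_mono M P Finset.subset_union_left z.2.1)
    obtain ⟨b₁, hb₁⟩ := exists_fac_oi (incl M P (p.1 ∪ p.2)) (HomRepLib.inc Z O ≫ b) (by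
      rintro _ ⟨z, rfl⟩; exact range_incl_mono M P Finset.subset_union_right z.2.2)
    show HomRepLib.inc Z O ≫ a = HomRepLib.inc Z O ≫ b
    rw [← ha₁, ← hb₁]
    congr 1
    refine chart_ext M P ?_
    rw [← incl_fam, ← MonoidalCategory.whiskerLeft_comp_assoc, ← MonoidalCategory.whiskerLeft_comp_assoc, ha₁, hb₁,
      MonoidalCategory.whiskerLeft_comp_assoc, MonoidalCategory.whiskerLeft_comp_assoc, hab]
  let O : ULift.{u} (Finset (Multiplicative M)) → T.left.Opens := fun F => locus M P hφ (F.down : Set (Multiplicative M))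
  have hcov : ∀ t, ∃ F, t ∈ Set.range (HomRepLib.inc T (O F)).left := fun t =>
    ⟨⟨(exists_goodPt M P hφ t).choose⟩, ⟨t, (exists_goodPt M P hφ t).choose_spec⟩, rfl⟩
  have ha : ∀ F, ∃ a : HomRepLib.piece T (O F) ⟶ space M P,
      (Red.diag R M ◁ a) ≫ fam M P = (Red.diag R M ◁ HomRepLib.inc T (O F)) ≫ φ := fun F => by
    obtain ⟨a, ha, -⟩ := (chart M P F.down).univ _ _ (HomRepLib.isHomFamily_comp hφ (HomRepLib.inc T (O F)))
      (fun v => (locus_comp M P hφ (HomRepLib.inc T (O F)) _ v).2 v.2)
    exact ⟨a ≫ incl M P F.down, by rw [MonoidalCategory.whiskerLeft_comp, Category.assoc, incl_fam]; exact ha⟩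
  choose a ha using ha
  obtain ⟨b, hb⟩ := exists_glue_cover (fun F => HomRepLib.inc T (O F))
    (fun F => inferInstanceAs (IsOpenImmersion (O F).ι)) hcov a fun F F' Z p q hpq => huniq Z _ _ (by
      simp only [MonoidalCategory.whiskerLeft_comp, Category.assoc, ha]
      rw [← MonoidalCategory.whiskerLeft_comp_assoc, hpq, MonoidalCategory.whiskerLeft_comp_assoc])
  have hbφ : (Red.diag R M ◁ b) ≫ fam M P = φ := by
    refine HomRepLib.hom_ext_pieces (fun F => (snd (Red.diag R M) T).left ⁻¹ᵁ O F)
      (fun z => ⟨⟨(exists_goodPt M P hφ _).choose⟩, (exists_goodPt M P hφ _).choose_spec⟩) fun F => ?_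
    let h := HomRepLib.inc (Red.diag R M ⊗ T) ((snd (Red.diag R M) T).left ⁻¹ᵁ O F)
    obtain ⟨c, hc⟩ := HomRepLib.exists_fac_inc (O F) (h ≫ snd _ _) (by rintro _ ⟨z, rfl⟩; exact z.2)
    have e : h = CartesianMonoidalCategory.lift (h ≫ fst _ _) c ≫ (Red.diag R M ◁ HomRepLib.inc T (O F)) := by
      rw [CartesianMonoidalCategory.lift_whiskerLeft, hc, ← comp_lift, lift_fst_snd, Category.comp_id]
    show h ≫ _ = h ≫ _
    rw [e, Category.assoc, Category.assoc, ← MonoidalCategory.whiskerLeft_comp_assoc, hb, ha]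
  exact ⟨b, hbφ, fun b' hb' => huniq T b' b (hb'.trans hbφ.symm)⟩

end Groth.Agent.MultTypeHom
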