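import Groth.Agent.MultTypeHom.Model
import Groth.Agent.MultTypeLib.Averaging
import Mathlib.Algebra.MonoidAlgebra.MapDomain
import Mathlib.RingTheory.LocalRing.Module
import Mathlib.RingTheory.Support
import Mathlib.RingTheory.Localization.Away.Basic

/-!
# Homomorphisms from diagonalisable groups and the weights of a coordinate comodule

For a homomorphism from the diagonalisable group on `N` to an affine group the weight spaces of a finitely generated
comodule are finitely generated direct summands, so the points where the weights lie in a given set form an open set.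
-/

set_option autoImplicit false
set_option maxHeartbeats 400000

universe u v

open TensorProduct Coalgebra WithConv

noncomputable section

namespace Groth.Agent.MultTypeHom

variable {R C : Type u} [CommRing R] [CommRing C] [HopfAlgebra R C] {N : Type v} [CommGroup N]

/-- A homomorphism from the diagonalisable group on `N` over the algebra `A` to the group of `C`. -/
structure AlgFam (R C : Type u) [CommRing R] [CommRing C] [HopfAlgebra R C] (N : Type v) [CommGroup N]
    (A : Type u) [CommRing A] [Algebra R A] where
  hom : C →ₐ[R] MonoidAlgebra A N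
  mul : ∀ c, MonoidAlgebra.mapDomain (fun n => (n, n)) (hom c) =
    Algebra.TensorProduct.lift ((MonoidAlgebra.mapDomainAlgHom R A (MonoidHom.inl N N)).comp hom)
      ((MonoidAlgebra.mapDomainAlgHom R A (MonoidHom.inr N N)).comp hom) (fun _ _ => Commute.all _ _)
      (comul (R := R) c)

namespace AlgFam

variable {A A' : Type u} [CommRing A] [Algebra R A] [CommRing A'] [Algebra R A']

theorem ext' {f g : AlgFam R C N A} (h : f.hom = g.hom) : f = g := by
  cases f; cases g; congr

/-- The coefficient at a character. -/
def coef (f : AlgFam R C N A) (m : N) : C →ₗ[R] A where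
  toFun c := (f.hom c).coeff m
  map_add' a b := by simp
  map_smul' r a := by simp

theorem coeff_inl_mul_inr (x y : MonoidAlgebra A N) (m n : N) :
    (MonoidAlgebra.mapDomainAlgHom R A (MonoidHom.inl N N) x *
      MonoidAlgebra.mapDomainAlgHom R A (MonoidHom.inr N N) y).coeff (m, n) = x.coeff m * y.coeff n := by
  classical
  induction x using MonoidAlgebra.induction_linear with
  | zero => simp
  | add x x' hx hx' => simp only [map_add, add_mul, MonoidAlgebra.coeff_add, Finsupp.add_apply, hx, hx']
  | single a r =>
    induction y using MonoidAlgebra.induction_linear with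
    | zero => simp
    | add y y' hy hy' => simp only [map_add, mul_add, MonoidAlgebra.coeff_add, Finsupp.add_apply, hy, hy']
    | single b s =>
      simp only [MonoidAlgebra.mapDomainAlgHom_apply, MonoidAlgebra.mapDomain_single,
        MonoidAlgebra.single_mul_single, MonoidAlgebra.coeff_single, Finsupp.single_apply]
      by_cases h1 : a = m <;> by_cases h2 : b = n <;> simp [h1, h2, Prod.ext_iff]

theorem coef_conv (f : AlgFam R C N A) [DecidableEq N] (m n : N) (c : C) :
    LinearMap.mul' R A (TensorProduct.map (f.coef m) (f.coef n) (comul (R := R) c)) =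
      if m = n then f.coef m c else 0 := by
  have h := congrArg (fun x => x.coeff (m, n)) (f.mul c)
  have h2 : ∀ z : C ⊗[R] C, (Algebra.TensorProduct.lift ((MonoidAlgebra.mapDomainAlgHom R A (MonoidHom.inl N N)).comp f.hom)
      ((MonoidAlgebra.mapDomainAlgHom R A (MonoidHom.inr N N)).comp f.hom) (fun _ _ => Commute.all _ _) z).coeff (m, n) =
      LinearMap.mul' R A (TensorProduct.map (f.coef m) (f.coef n) z) := fun z => by
    induction z using TensorProduct.induction_on with
    | zero => simp
    | add a b ha hb => simp only [map_add, MonoidAlgebra.coeff_add, Finsupp.add_apply, ha, hb]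
    | tmul a b =>
      rw [Algebra.TensorProduct.lift_tmul, AlgHom.comp_apply, AlgHom.comp_apply, coeff_inl_mul_inr]
      simp [coef]
  refine ((h2 _).symm.trans h.symm).trans ?_
  show (MonoidAlgebra.mapDomain (fun n => (n, n)) (f.hom c)).coeff (m, n) = _
  simp only [coef, LinearMap.coe_mk, AddHom.coe_mk]
  induction f.hom c using MonoidAlgebra.induction_linear with
  | zero => simp
  | add x y hx hy => simp only [MonoidAlgebra.mapDomain_add, MonoidAlgebra.coeff_add, Finsupp.add_apply, hx, hy]; split <;> simp
  | single a r =>
    rw [MonoidAlgebra.mapDomain_single]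
    simp only [MonoidAlgebra.coeff_single, Finsupp.single_apply, Prod.ext_iff]
    split_ifs <;> first | rfl | grind

/-- Change of algebra. -/
def map (g : A →ₐ[R] A') (f : AlgFam R C N A) : AlgFam R C N A' where
  hom := (MonoidAlgebra.mapAlgHom N g).comp f.hom
  mul c := by
    have h1 : ∀ x : MonoidAlgebra A N, MonoidAlgebra.mapDomain (fun n => (n, n)) (MonoidAlgebra.mapAlgHom N g x) =
        MonoidAlgebra.mapAlgHom (N × N) g (MonoidAlgebra.mapDomain (fun n => (n, n)) x) := fun x => by
      induction x using MonoidAlgebra.induction_linear with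
      | zero => simp
      | add x y hx hy => simp only [map_add, MonoidAlgebra.mapDomain_add, hx, hy]
      | single a r => simp
    have hnat : ∀ (i : N →* N × N) (x : MonoidAlgebra A N),
        MonoidAlgebra.mapAlgHom (N × N) g (MonoidAlgebra.mapDomainAlgHom R A i x) =
          MonoidAlgebra.mapDomainAlgHom R A' i (MonoidAlgebra.mapAlgHom N g x) := fun i x => by
      induction x using MonoidAlgebra.induction_linear with
      | zero => simp
      | add x y hx hy => simp only [map_add, hx, hy]
      | single a r => simp
    rw [AlgHom.comp_apply, h1, f.mul]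
    generalize comul (R := R) c = z
    induction z using TensorProduct.induction_on with
    | zero => simp
    | add a b ha hb => simp only [map_add, ha, hb]
    | tmul a b => simp only [Algebra.TensorProduct.lift_tmul, AlgHom.comp_apply, map_mul, hnat]

theorem coef_map (g : A →ₐ[R] A') (f : AlgFam R C N A) (m : N) (c : C) :
    (f.map g).coef m c = g (f.coef m c) := by
  simp [map, coef]

section Comodule

variable (P : CoordRep R C)

/-- The component of weight `m` of a vector of the comodule. -/
def comp (f : AlgFam R C N A) (m : N) : P.W →ₗ[R] A ⊗[R] P.W :=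
  (TensorProduct.comm R P.W A).toLinearMap ∘ₗ (f.coef m).lTensor P.W ∘ₗ P.rho

/-- The projection to the weight space. -/
def proj (f : AlgFam R C N A) (m : N) : A ⊗[R] P.W →ₗ[A] A ⊗[R] P.W :=
  LinearMap.liftBaseChange A (f.comp P m)

theorem proj_tmul (f : AlgFam R C N A) (m : N) (a : A) (w : P.W) : f.proj P m (a ⊗ₜ w) = a • f.comp P m w := by
  simp [proj]

theorem proj_idem (f : AlgFam R C N A) (m : N) (x : A ⊗[R] P.W) : f.proj P m (f.proj P m x) = f.proj P m x := by
  classical
  induction x using TensorProduct.induction_on with
  | zero => simp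
  | add a b ha hb => simp only [map_add, ha, hb]
  | tmul a w =>
    rw [proj_tmul, map_smul]
    congr 1
    let Λ : P.W ⊗[R] (C ⊗[R] C) →ₗ[R] A ⊗[R] P.W :=
      (TensorProduct.comm R P.W A).toLinearMap ∘ₗ
        (LinearMap.mul' R A ∘ₗ TensorProduct.map (f.coef m) (f.coef m)).lTensor P.W
    have h1 : ∀ z : P.W ⊗[R] C, f.proj P m ((TensorProduct.comm R P.W A) ((f.coef m).lTensor P.W z)) =
        Λ (TensorProduct.assoc R P.W C C (P.rho.rTensor C z)) := fun z => by
      induction z using TensorProduct.induction_on with
      | zero => simp
      | add a b ha hb => simp only [map_add, ha, hb]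
      | tmul v c =>
        simp only [LinearMap.lTensor_tmul, TensorProduct.comm_tmul, proj_tmul, comp, LinearMap.comp_apply,
          LinearEquiv.coe_coe, LinearMap.rTensor_tmul, Λ]
        generalize P.rho v = z'
        induction z' using TensorProduct.induction_on with
        | zero => simp
        | add a b ha hb => simp only [map_add, smul_add, TensorProduct.add_tmul, ha, hb]
        | tmul v' c' => simp [TensorProduct.smul_tmul', mul_comm]
    show f.proj P m ((TensorProduct.comm R P.W A) ((f.coef m).lTensor P.W (P.rho w))) = _
    rw [h1, P.coassoc]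
    show _ = (TensorProduct.comm R P.W A) ((f.coef m).lTensor P.W (P.rho w))
    generalize P.rho w = z
    induction z using TensorProduct.induction_on with
    | zero => simp
    | add a b ha hb => simp only [map_add, ha, hb]
    | tmul v c => simp [Λ, coef_conv]

/-- Outside a finite set of characters the components vanish. -/
theorem exists_finset (f : AlgFam R C N A) : ∃ S : Finset N, ∀ m ∉ S, f.comp P m = 0 := by
  classical
  have hz : ∀ z : P.W ⊗[R] C, ∃ S : Finset N, ∀ m ∉ S, (f.coef m).lTensor P.W z = 0 := fun z => by
    induction z using TensorProduct.induction_on with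
    | zero => exact ⟨∅, by simp⟩
    | add a b ha hb =>
      obtain ⟨S, hS⟩ := ha; obtain ⟨T, hT⟩ := hb
      exact ⟨S ∪ T, fun m hm => by
        rw [Finset.mem_union, not_or] at hm
        rw [map_add, hS m hm.1, hT m hm.2, add_zero]⟩
    | tmul v c =>
      exact ⟨(f.hom c).coeff.support, fun m hm => by
        simp [coef, Finsupp.notMem_support_iff.1 hm]⟩
  choose S hS using hz
  obtain ⟨s, hs⟩ := Module.Finite.fg_top (R := R) (M := P.W)
  refine ⟨s.biUnion fun w => S (P.rho w), fun m hm => ?_⟩
  refine LinearMap.ext_on hs fun w hw => ?_
  have := hS (P.rho w) m fun h => hm (Finset.mem_biUnion.2 ⟨w, hw, h⟩)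
  simp [comp, this]

theorem comp_map (g : A →ₐ[R] A') (f : AlgFam R C N A) (m : N) (w : P.W) :
    (f.map g).comp P m w = g.toLinearMap.rTensor P.W (f.comp P m w) := by
  simp only [comp, LinearMap.comp_apply, LinearEquiv.coe_coe]
  generalize P.rho w = z
  induction z using TensorProduct.induction_on with
  | zero => simp
  | add a b ha hb => simp only [map_add, ha, hb]
  | tmul v c => simp [coef_map]

/-- The weights lie in `F`. -/
def Good (f : AlgFam R C N A) (F : Set N) : Prop := ∀ m ∉ F, f.comp P m = 0

theorem good_mono {f : AlgFam R C N A} {F F' : Set N} (h : f.Good P F) (hF : F ⊆ F') : f.Good P F' :=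
  fun m hm => h m fun h' => hm (hF h')

theorem good_inter {f : AlgFam R C N A} {F F' : Set N} (h : f.Good P F) (h' : f.Good P F') : f.Good P (F ∩ F') :=
  fun m hm => by
    by_cases h1 : m ∈ F
    · exact h' m fun h2 => hm ⟨h1, h2⟩
    · exact h m h1

theorem good_map (g : A →ₐ[R] A') {f : AlgFam R C N A} {F : Set N} (h : f.Good P F) : (f.map g).Good P F :=
  fun m hm => LinearMap.ext fun w => by rw [comp_map, h m hm]; simp

theorem good_of_map_field {K : Type u} [Field K] [Algebra R K] {L : Type u} [CommRing L] [Algebra R L] [Nontrivial L]
    (g : K →ₐ[R] L) {f : AlgFam R C N K} {F : Set N} (h : (f.map g).Good P F) : f.Good P F := by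
  letI : Algebra K L := g.toRingHom.toAlgebra
  haveI : IsScalarTower R K L := IsScalarTower.of_algebraMap_eq fun r => (g.commutes r).symm
  obtain ⟨l, hl⟩ := LinearMap.exists_leftInverse_of_injective (Algebra.linearMap K L)
    (LinearMap.ker_eq_bot.2 (algebraMap K L).injective)
  have hli : ∀ x : K ⊗[R] P.W, (l.restrictScalars R).rTensor P.W (g.toLinearMap.rTensor P.W x) = x := fun x => by
    induction x using TensorProduct.induction_on with
    | zero => simp
    | add a b ha hb => simp only [map_add, ha, hb]
    | tmul a b =>
      have h2 : l (g a) = a := LinearMap.congr_fun hl a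
      simp [h2]
  intro m hm
  refine LinearMap.ext fun w => ?_
  rw [← hli (f.comp P m w), ← comp_map, h m hm]
  simp

/-- The weights of the generators are bounded by those of the comodule. -/
theorem coef_j {f : AlgFam R C N A} {F : Set N} (h : f.Good P F) {m : N} (hm : m ∉ F) (w : P.W) :
    f.coef m (P.j w) = 0 := by
  let e : A ⊗[R] P.W →ₗ[R] A :=
    (TensorProduct.rid R A).toLinearMap ∘ₗ ((counit (R := R)) ∘ₗ P.j).lTensor A
  have h0 : e (f.comp P m w) = f.coef m (P.j w) := by
    have h1 : P.j w = TensorProduct.lid R C ((counit (R := R) ∘ₗ P.j).rTensor C (P.rho w)) := by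
      conv_lhs => rw [← one_smul R (P.j w), ← TensorProduct.lid_tmul, ← rTensor_counit_comul, P.comul_j]
      rw [← LinearMap.comp_apply (f := (counit (R := R)).rTensor C), ← LinearMap.rTensor_comp]
    rw [h1]
    simp only [e, comp, LinearMap.comp_apply, LinearEquiv.coe_coe]
    generalize P.rho w = z
    induction z using TensorProduct.induction_on with
    | zero => simp
    | add a b ha hb => simp only [map_add, ha, hb]
    | tmul v c => simp
  rw [← h0, h m hm]
  simp

/-- The weights at a point bound the weights near the point. -/
theorem exists_away (f : AlgFam R C N A) (F : Set N) (p : PrimeSpectrum A)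
    (h : (f.map (IsScalarTower.toAlgHom R A p.asIdeal.ResidueField)).Good P F) :
    ∃ s ∉ p.asIdeal, (f.map (IsScalarTower.toAlgHom R A (Localization.Away s))).Good P F := by
  classical
  let K := p.asIdeal.ResidueField
  obtain ⟨S, hS⟩ := f.exists_finset P
  have hann : ∀ m ∉ F, ∃ s ∉ p.asIdeal, ∀ w, s • f.comp P m w = 0 := fun m hm => by
    let Nm := LinearMap.range (f.proj P m)
    have hsub : Subsingleton (K ⊗[A] Nm) := by
      let q : A ⊗[R] P.W →ₗ[A] Nm := (f.proj P m).rangeRestrict
      have hq : q ∘ₗ Nm.subtype = LinearMap.id := LinearMap.ext fun ⟨x, y, hy⟩ => Subtype.ext (by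
        show f.proj P m x = x
        rw [← hy, proj_idem])
      have hinj : Function.Injective (Nm.subtype.lTensor K) := by
        refine Function.LeftInverse.injective (g := q.lTensor K) fun z => ?_
        rw [← LinearMap.comp_apply, ← LinearMap.lTensor_comp, hq, LinearMap.lTensor_id, LinearMap.id_apply]
      have hzero : ∀ x : A ⊗[R] P.W, (1 : K) ⊗ₜ[A] f.proj P m x = 0 := fun x => by
        apply (TensorProduct.AlgebraTensorModule.cancelBaseChange R A A K P.W).injective
        rw [map_zero]
        induction x using TensorProduct.induction_on with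
        | zero => simp
        | add a b ha hb => rw [map_add, TensorProduct.tmul_add, map_add, ha, hb, add_zero]
        | tmul a w =>
          rw [proj_tmul, ← TensorProduct.smul_tmul]
          have hK : (f.map (IsScalarTower.toAlgHom R A K)).comp P m w = 0 := by rw [h m hm]; rfl
          rw [comp_map] at hK
          have key : ∀ y : A ⊗[R] P.W, TensorProduct.AlgebraTensorModule.cancelBaseChange R A A K P.W
              ((a • (1 : K)) ⊗ₜ[A] y) = (a • (1 : K)) • (IsScalarTower.toAlgHom R A K).toLinearMap.rTensor P.W y := by
            intro y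
            induction y using TensorProduct.induction_on with
            | zero => simp
            | add c d hc hd => simp only [TensorProduct.tmul_add, map_add, smul_add, hc, hd]
            | tmul c d => simp [Algebra.smul_def, TensorProduct.smul_tmul', mul_comm]
          rw [key, hK, smul_zero]
      refine subsingleton_of_forall_eq 0 fun z => hinj ?_
      rw [map_zero]
      induction z using TensorProduct.induction_on with
      | zero => simp
      | add a b ha hb => rw [map_add, ha, hb, add_zero]
      | tmul k x =>
        obtain ⟨x, y, rfl⟩ := x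
        rw [LinearMap.lTensor_tmul, ← mul_one k, ← smul_eq_mul, ← TensorProduct.smul_tmul']
        show k • ((1 : K) ⊗ₜ[A] f.proj P m y) = 0
        rw [hzero, smul_zero]
    haveI : Module.Finite A Nm := Module.Finite.of_surjective (f.proj P m).rangeRestrict
      (LinearMap.surjective_rangeRestrict _)
    have hp : p ∉ Module.support A Nm := fun hp =>
      not_subsingleton_iff_nontrivial.2 ((Module.mem_support_iff_nontrivial_residueField_tensorProduct p).1 hp) hsub
    rw [Module.mem_support_iff_of_finite, SetLike.not_le_iff_exists] at hp
    obtain ⟨s, hs, hsp⟩ := hp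
    refine ⟨s, hsp, fun w => ?_⟩
    have hm1 : f.comp P m w ∈ Nm := ⟨(1 : A) ⊗ₜ w, by rw [proj_tmul, one_smul]⟩
    exact congrArg Subtype.val (Module.mem_annihilator.1 hs ⟨_, hm1⟩)
  choose! s hs1 hs2 using hann
  refine ⟨∏ m ∈ S.filter (· ∉ F), s m, fun hmem => ?_, fun m hm => LinearMap.ext fun w => ?_⟩
  · obtain ⟨m, hm, hmm⟩ := (p.2.prod_mem_iff).1 hmem
    exact hs1 m (Finset.mem_filter.1 hm).2 hmm
  · rw [comp_map]
    by_cases hmS : m ∈ S
    · have h1 : (∏ m ∈ S.filter (· ∉ F), s m) • f.comp P m w = 0 := by
        rw [← Finset.prod_erase_mul _ _ (Finset.mem_filter.2 ⟨hmS, hm⟩ : m ∈ S.filter (· ∉ F)), mul_smul,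
          hs2 m hm, smul_zero]
      let u := ∏ m ∈ S.filter (· ∉ F), s m
      have hu : IsUnit (algebraMap A (Localization.Away u) u) := IsLocalization.Away.algebraMap_isUnit u
      have h2 : algebraMap A (Localization.Away u) u •
          (IsScalarTower.toAlgHom R A (Localization.Away u)).toLinearMap.rTensor P.W (f.comp P m w) = 0 := by
        have key : ∀ y : A ⊗[R] P.W, (IsScalarTower.toAlgHom R A (Localization.Away u)).toLinearMap.rTensor P.W (u • y) =
            algebraMap A (Localization.Away u) u •
              (IsScalarTower.toAlgHom R A (Localization.Away u)).toLinearMap.rTensor P.W y := fun y => by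
          induction y using TensorProduct.induction_on with
          | zero => simp
          | add c d hc hd => simp only [smul_add, map_add, hc, hd]
          | tmul c d => simp [TensorProduct.smul_tmul', Algebra.smul_def]
        rw [← key, h1, map_zero]
      exact (hu.smul_eq_zero).1 h2
    · rw [hS m hmS]; simp

theorem good_of_forall_prime {f : AlgFam R C N A} {F : Set N}
    (h : ∀ p : PrimeSpectrum A, (f.map (IsScalarTower.toAlgHom R A p.asIdeal.ResidueField)).Good P F) : f.Good P F := by
  intro m hm
  refine LinearMap.ext fun w => ?_
  let J : Ideal A := (A ∙ f.comp P m w).annihilator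
  suffices hJ : J = ⊤ by
    have h1 : (1 : A) ∈ J := hJ ▸ Submodule.mem_top
    rw [Submodule.mem_annihilator_span_singleton, one_smul] at h1
    simpa using h1
  by_contra hJ
  obtain ⟨M, hM, hle⟩ := Ideal.exists_le_maximal J hJ
  obtain ⟨s, hs, hg⟩ := f.exists_away P F ⟨M, hM.isPrime⟩ (h _)
  have h0 := LinearMap.congr_fun (hg m hm) w
  rw [comp_map] at h0
  have hloc : IsLocalizedModule (Submonoid.powers s)
      (TensorProduct.mk A (Localization.Away s) (A ⊗[R] P.W) 1) :=
    (isLocalizedModule_iff_isBaseChange (Submonoid.powers s) (Localization.Away s) _).2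
      (TensorProduct.isBaseChange A (A ⊗[R] P.W) (Localization.Away s))
  have h1 : (1 : Localization.Away s) ⊗ₜ[A] f.comp P m w = 0 := by
    apply (TensorProduct.AlgebraTensorModule.cancelBaseChange R A A (Localization.Away s) P.W).injective
    rw [map_zero, ← LinearMap.zero_apply (σ₁₂ := RingHom.id R) (M₂ := Localization.Away s ⊗[R] P.W) w]
    refine Eq.trans ?_ h0
    generalize f.comp P m w = y
    induction y using TensorProduct.induction_on with
    | zero => simp
    | add c d hc hd => simp only [TensorProduct.tmul_add, map_add, hc, hd]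
    | tmul c d => simp [Algebra.smul_def]
  obtain ⟨⟨_, n, rfl⟩, hn⟩ := (IsLocalizedModule.eq_iff_exists (Submonoid.powers s)
    (TensorProduct.mk A (Localization.Away s) (A ⊗[R] P.W) 1) (x₁ := f.comp P m w) (x₂ := 0)).1 (by simpa using h1)
  have hsn : s ^ n ∈ J := by
    rw [Submodule.mem_annihilator_span_singleton]
    simpa [Submonoid.smul_def] using hn
  exact hs (hM.isPrime.mem_of_pow_mem n (hle hsn))

end Comodule

/-- The sum of the coefficients is the counit. -/
theorem sum_coef (f : AlgFam R C N A) (S : Finset N) (c : C) (hS : ∀ m ∉ S, f.coef m c = 0) :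
    ∑ m ∈ S, f.coef m c = algebraMap R A (counit (R := R) c) := by
  classical
  letI : Group (WithConv (C →ₐ[R] A)) := MultTypeLib.algConvGroup
  let aug : MonoidAlgebra A N →ₐ[R] A := (MonoidAlgebra.lift A A N (1 : N →* A)).restrictScalars R
  let aug2 : MonoidAlgebra A (N × N) →ₐ[R] A := (MonoidAlgebra.lift A A (N × N) (1 : N × N →* A)).restrictScalars R
  let u : C →ₐ[R] A := aug.comp f.hom
  have hu : toConv u * toConv u = toConv u := by
    refine WithConv.ofConv_injective (AlgHom.ext fun c => ?_)
    rw [AlgHom.convMul_apply]
    show _ = aug (f.hom c)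
    have h1 : aug2 (MonoidAlgebra.mapDomain (fun n => (n, n)) (f.hom c)) = aug (f.hom c) := by
      induction f.hom c using MonoidAlgebra.induction_linear with
      | zero => simp
      | add x y hx hy => simp only [MonoidAlgebra.mapDomain_add, map_add, hx, hy]
      | single a r => simp [aug, aug2]
    have hl : ∀ x, aug2 (MonoidAlgebra.mapDomainAlgHom R A (MonoidHom.inl N N) x) = aug x := fun x => by
      induction x using MonoidAlgebra.induction_linear with
      | zero => simp
      | add x y hx hy => simp only [map_add, hx, hy]
      | single a r => simp [aug, aug2]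
    have hr : ∀ x, aug2 (MonoidAlgebra.mapDomainAlgHom R A (MonoidHom.inr N N) x) = aug x := fun x => by
      induction x using MonoidAlgebra.induction_linear with
      | zero => simp
      | add x y hx hy => simp only [map_add, hx, hy]
      | single a r => simp [aug, aug2]
    rw [← h1, f.mul]
    generalize comul (R := R) c = z
    induction z using TensorProduct.induction_on with
    | zero => simp
    | add a b ha hb => simp only [map_add, ha, hb]
    | tmul a b => simp only [Algebra.TensorProduct.lift_tmul, Algebra.TensorProduct.map_tmul, TensorProduct.map_tmul, LinearMap.mul'_apply, AlgHom.comp_apply, map_mul, hl, hr, u]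
  have hu1 : u c = algebraMap R A (counit (R := R) c) := by
    have h2 : toConv u = 1 := mul_eq_left.1 hu
    have h3 := congrArg (fun x : WithConv (C →ₐ[R] A) => (WithConv.ofConv x : C →ₐ[R] A) c) h2
    simpa using h3
  rw [← hu1]
  have h4 : ∀ x : MonoidAlgebra A N, ∀ S : Finset N, x.coeff.support ⊆ S → ∑ m ∈ S, x.coeff m = aug x := fun x S hx => by
    show _ = MonoidAlgebra.lift A A N (1 : N →* A) x
    rw [MonoidAlgebra.lift_apply, Finsupp.sum_of_support_subset _ hx _ (fun _ _ => by simp)]
    simp
  exact h4 _ S fun m hm => by
    by_contra h5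
    exact Finsupp.mem_support_iff.1 hm (hS m h5)

end AlgFam

end Groth.Agent.MultTypeHom
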